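import Groth.Agent.H4.PicZero.Calculus
import Groth.Agent.S8124

/-! A Poincaré class over a field is additive in both variables. -/

set_option autoImplicit false
set_option linter.style.haveILetI false

universe u

open CategoryTheory CategoryTheory.Limits MonoidalCategory CartesianMonoidalCategory MonObj AlgebraicGeometry
open Groth.Agent.H3

namespace Groth.Agent.H4.PicZero

noncomputable section

local instance poincareLaw (Y : Scheme.{u}) : PicGrp.Law Y := Groth.Agent.Lib.TensorMod.Invertible.law Y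

variable {k : Type u} [Field k] {A At : Over (Spec (CommRingCat.of k))} [GrpObj A] [GrpObj At]
  [IsProper A.hom] [GeometricallyIntegral A.hom] [IsProper At.hom] [GeometricallyIntegral At.hom]
  {φ : ∀ T : Over (Spec (CommRingCat.of k)), PicF.Cl (PicF.XT A.hom T) → (T ⟶ At)}
  (hφ : AbDual.IsDualAV Scheme.fppfPrecoverage A At φ) {a : PicLoc.PicSet (A ⊗ At).left}
  (hξ : AbDual.IsPoincareCl A At φ a.1)

include hξ

omit [IsProper A.hom] [GeometricallyIntegral A.hom] [IsProper At.hom] [GeometricallyIntegral At.hom] in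
theorem poincare_one_left {V : Over (Spec (CommRingCat.of k))} (t : V ⟶ At) :
    PicCalc.ph (lift (1 : V ⟶ A) t) a = 1 := by
  have h1 : PicCalc.ph (lift (1 : At ⟶ A) (𝟙 At)) a = 1 := by
    apply Subtype.ext
    rw [PicCalc.ph_val, PicGrp.one_val]
    have e : (lift (1 : At ⟶ A) (𝟙 At)).left = PicF.secT A.hom η[A].left (Over.w η[A]) At := by
      refine pullback.hom_ext (f := A.hom) (g := At.hom) ?_ ?_
      · refine (congrArg Over.Hom.left (lift_fst (1 : At ⟶ A) (𝟙 At))).trans ?_
        rw [PicF.secT, pullback.lift_fst, Hom.one_def]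
        rfl
      · refine (congrArg Over.Hom.left (lift_snd (1 : At ⟶ A) (𝟙 At))).trans ?_
        rw [PicF.secT, pullback.lift_snd]
        rfl
    rw [e]
    exact hξ.2.2
  have e : lift (1 : V ⟶ A) t = t ≫ lift (1 : At ⟶ A) (𝟙 At) := by
    rw [comp_lift, MonObj.comp_one, Category.comp_id]
  rw [e, PicCalc.ph_comp, h1, map_one]

include hφ

/-- The restriction to `A × {0}` of a Poincaré class is trivial. -/
theorem poincare_one_right {V : Over (Spec (CommRingCat.of k))} (x : V ⟶ A) :
    PicCalc.ph (lift x (1 : V ⟶ At)) a = 1 := by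
  let I := 𝟙_ (Over (Spec (CommRingCat.of k)))
  haveI : Subsingleton I.left := inferInstanceAs (Subsingleton (Spec (CommRingCat.of k)))
  haveI : Nonempty I.left := inferInstanceAs (Nonempty (Spec (CommRingCat.of k)))
  let c₀ : PicLoc.PicSet (A ⊗ I).left := PicCalc.ph (A ◁ η[At]) a
  suffices h : c₀ = 1 by
    have e : lift x (1 : V ⟶ At) = lift x (toUnit V) ≫ (A ◁ η[At]) := by
      rw [lift_whiskerLeft, Hom.one_def]
    rw [e, PicCalc.ph_comp]
    show PicCalc.ph _ c₀ = 1
    rw [h, map_one]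
  have h0 : AbDual.IsPicZeroCl A.hom I c₀.1 := isPicZeroCl_ph η[At] _ (whiskerLeft_snd A _) hξ.1
  have hone : PicCalc.ph ((1 : A ⟶ A) ▷ I) c₀ = 1 := by
    have e : ((1 : A ⟶ A) ▷ I) = snd A I ≫ lift (1 : I ⟶ A) (𝟙 I) := by
      rw [comp_lift, MonObj.comp_one, Category.comp_id]
      apply CartesianMonoidalCategory.hom_ext <;> simp [MonObj.comp_one]
    rw [e, PicCalc.ph_comp, PicCalc.eq_one_of_subsingleton (PicCalc.ph (lift (1 : I ⟶ A) (𝟙 I)) c₀),
      map_one]
  have h1 : AbDual.IsPicZeroCl A.hom I (1 : PicLoc.PicSet (A ⊗ I).left).1 := by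
    rw [← hone]
    exact isPicZeroCl_ph (𝟙 I) _ (by rw [whiskerRight_snd, Category.comp_id]) h0
  have he : φ I c₀.1 = φ I (1 : PicLoc.PicSet (A ⊗ I).left).1 := by
    rw [phi_one hφ h1, phi_natural hφ η[At] hξ.1, hξ.2.1, Category.comp_id]
    exact (MonObj.one_eq_one (M := At))
  obtain ⟨R, hR, hloc⟩ := hφ.relPic.locallyInjective I _ _ h0 h1 he
  obtain ⟨hcov, -⟩ := fppf_cover_props hR
  obtain ⟨W, w, hw, z, -⟩ := hcov (Classical.arbitrary I.left)
  let σ : Spec (W.residueField z) ⟶ Spec (CommRingCat.of k) := W.fromSpecResidueField z ≫ w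
  let κ := (W.residueField z : Type u)
  letI : Algebra k κ := (Spec.preimage σ).hom.toAlgebra
  have hσ : Spec.map (CommRingCat.ofHom (algebraMap k κ)) = σ := Spec.map_preimage σ
  obtain ⟨L, hL, hLc⟩ := PicGrp.exists_eq_cls c₀
  rw [hLc, PicGrp.cls_eq_one_iff hL]
  haveI : IsProper (pullback.snd A.hom I.hom) := inferInstance
  haveI : GeometricallyIntegral (pullback.snd A.hom I.hom) := inferInstance
  refine S8124.result k _ (pullback.snd A.hom I.hom) L hL κ ?_
  rw [hσ]
  let P : Over (Spec (CommRingCat.of k)) :=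
    Over.mk (pullback.snd (pullback.snd A.hom I.hom) σ ≫ σ)
  let v : P ⟶ AbDual.ovr I w :=
    Over.homMk (pullback.snd (pullback.snd A.hom I.hom) σ ≫ W.fromSpecResidueField z) (by
      show (_ ≫ _) ≫ w ≫ 𝟙 _ = _
      rw [Category.comp_id, Category.assoc]
      rfl)
  let π : P ⟶ A ⊗ I := Over.homMk (pullback.fst (pullback.snd A.hom I.hom) σ) (by
    have e : (A ⊗ I).hom = pullback.snd A.hom I.hom := by
      show pullback.fst A.hom I.hom ≫ A.hom = _
      rw [pullback.condition]
      exact Category.comp_id _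
    rw [e]
    exact pullback.condition)
  have hπ : π = lift (π ≫ fst A I) v ≫ (A ◁ AbDual.ovrHom I w) := by
    rw [lift_whiskerLeft]
    refine CartesianMonoidalCategory.hom_ext _ _ (lift_fst _ _).symm (toUnit_unique _ _)
  have hone' : PicCalc.ph π c₀ = 1 := by
    have hl : PicCalc.ph (A ◁ AbDual.ovrHom I w) c₀ =
        PicCalc.ph (A ◁ AbDual.ovrHom I w) (1 : PicLoc.PicSet (A ⊗ I).left) := by
      apply Subtype.ext
      rw [PicCalc.ph_val _ c₀, PicCalc.ph_val _ (1 : PicLoc.PicSet (A ⊗ I).left), ← XTmap_eq]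
      exact hloc w hw
    rw [hπ, PicCalc.ph_comp, hl, map_one, map_one]
  exact (PicCalc.iso_iff (PicCalc.cl_pullback π (L := L) (a := PicGrp.cls L hL) rfl)
    (b := (1 : PicLoc.PicSet P.left)) PicGrp.one_val.symm).2 (by rw [← hLc]; exact hone')

/-- A Poincaré class is additive in the first variable. -/
theorem poincare_mul_left {V : Over (Spec (CommRingCat.of k))} (x y : V ⟶ A) (t : V ⟶ At) :
    PicCalc.ph (lift (x * y) t) a = PicCalc.ph (lift x t) a * PicCalc.ph (lift y t) a := by
  haveI : IsLocallyNoetherian At.left := LocallyOfFiniteType.isLocallyNoetherian At.hom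
  have h := ph_lift_mul (Y := A) hξ.1 x y t
  rwa [poincare_one_left hξ, _root_.mul_one] at h

/-- A Poincaré class is additive in the second variable. -/
theorem poincare_mul_right {V : Over (Spec (CommRingCat.of k))} (x : V ⟶ A) (s t : V ⟶ At) :
    PicCalc.ph (lift x (s * t)) a = PicCalc.ph (lift x s) a * PicCalc.ph (lift x t) a := by
  haveI : IsLocallyNoetherian At.left := LocallyOfFiniteType.isLocallyNoetherian At.hom
  haveI : IsIntegral At.left := GeometricallyIntegral.isIntegral_of_subsingleton At.hom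
  let D : ∀ {W : Over (Spec (CommRingCat.of k))}, (W ⟶ A) → (W ⟶ At) → (W ⟶ At) →
      PicLoc.PicSet W.left := fun x s t => PicCalc.ph (lift x (s * t)) a *
    (PicCalc.ph (lift x s) a * PicCalc.ph (lift x t) a)⁻¹
  have hD : ∀ {W W' : Over (Spec (CommRingCat.of k))} (u : W' ⟶ W) x s t,
      PicCalc.ph u (D x s t) = D (u ≫ x) (u ≫ s) (u ≫ t) := by
    intro W W' u x s t
    simp only [D, map_mul, map_inv, ← PicCalc.ph_comp, comp_lift, MonObj.comp_mul]
  let p : A ⊗ At ⊗ At ⟶ A := fst A (At ⊗ At)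
  let q : A ⊗ At ⊗ At ⟶ At := snd A (At ⊗ At) ≫ fst At At
  let r : A ⊗ At ⊗ At ⟶ At := snd A (At ⊗ At) ≫ snd At At
  suffices huniv : D p q r = 1 by
    have e := hD (lift x (lift s t)) p q r
    rw [huniv, map_one] at e
    simp only [p, q, r, lift_fst, lift_snd_assoc, lift_snd] at e
    exact mul_inv_eq_one.1 e.symm
  refine eq_one_of_fibre η[A] η[At] ?_ ?_ k η[At].left ?_
  · rw [hD]
    simp only [p, q, r, lift_fst, lift_snd_assoc, Category.id_comp, ← Hom.one_def]
    simp only [D, poincare_one_left hξ, _root_.mul_one, inv_one]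
  · rw [hD]
    simp only [p, q, r, lift_fst, lift_snd_assoc, lift_snd, ← Hom.one_def]
    simp only [D, _root_.one_mul, poincare_one_right hφ hξ, mul_inv_cancel]
  · rw [hD]
    have hw : (fieldPtHom (Z := At) η[At].left : fieldPt (Z := At) η[At].left ⟶ At) = 1 := by
      rw [Hom.one_def]
      apply Over.OverMorphism.ext
      rw [Over.comp_left, Over.toUnit_left]
      show η[At].left = (η[At].left ≫ At.hom) ≫ η[At].left
      rw [Over.w η[At]]
      exact (Category.id_comp _).symm
    have e : (A ◁ (At ◁ fieldPtHom (Z := At) η[At].left)) ≫ r = 1 := by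
      have e' : (A ◁ (At ◁ fieldPtHom (Z := At) η[At].left)) ≫ r =
          (snd A (At ⊗ fieldPt (Z := At) η[At].left) ≫ snd At _) ≫ fieldPtHom (Z := At) η[At].left := by
        simp [r]
      rw [e', hw, MonObj.comp_one]
    rw [e]
    simp only [D, _root_.mul_one, poincare_one_right hφ hξ, mul_inv_cancel]

end

end Groth.Agent.H4.PicZero
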