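import Groth.Prelude.Def_AbDual
import Groth.Prelude.Def_PicLoc

/-! Algebraic equivalence to zero is stable under pullback. -/

set_option autoImplicit false
set_option linter.style.haveILetI false

universe u

open CategoryTheory CategoryTheory.Limits MonoidalCategory CartesianMonoidalCategory AlgebraicGeometry
open IsLocalRing (closedPoint)

namespace Groth.Agent.H4.PicZero

noncomputable section

/-- Algebraic equivalence to zero pulls back along morphisms of `k`-schemes. -/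
theorem isAlgEquivZero_pullback {k : Type u} [Field k] {X X' : Scheme.{u}}
    (pX : X ⟶ Spec (CommRingCat.of k)) (pX' : X' ⟶ Spec (CommRingCat.of k)) (f : X ⟶ X')
    (hf : f ≫ pX' = pX) {L : X'.Modules} (h : @Pic13.IsAlgEquivZero k _ X' ⟨pX'⟩ L) :
    @Pic13.IsAlgEquivZero k _ X ⟨pX⟩ ((Scheme.Modules.pullback f).obj L) := by
  obtain ⟨T, q, hconn, hlft, hqc, M, hM, t, t₀, ht, ht₀, ⟨e⟩, ⟨e₀⟩⟩ := h
  let j : @Pic13.prodK k _ X ⟨pX⟩ T q ⟶ @Pic13.prodK k _ X' ⟨pX'⟩ T q :=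
    pullback.lift (pullback.fst pX q ≫ f) (pullback.snd pX q)
      (by show (pullback.fst pX q ≫ f) ≫ pX' = pullback.snd pX q ≫ q
          rw [Category.assoc, hf]; exact pullback.condition)
  have hj : ∀ (s : Spec (CommRingCat.of k) ⟶ T) (hs : s ≫ q = 𝟙 _),
      @Pic13.sliceAt k _ X ⟨pX⟩ T q s hs ≫ j = f ≫ @Pic13.sliceAt k _ X' ⟨pX'⟩ T q s hs := by
    intro s hs
    refine pullback.hom_ext (f := pX') (g := q) ?_ ?_
    · refine (Category.assoc _ _ _).trans ?_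
      refine (congrArg (_ ≫ ·) (pullback.lift_fst _ _ _)).trans ?_
      refine (Category.assoc _ _ _).symm.trans ?_
      refine (congrArg (· ≫ f) (pullback.lift_fst _ _ _)).trans ?_
      refine (Category.id_comp f).trans (Eq.trans ?_ (Category.assoc _ _ _).symm)
      exact ((congrArg (f ≫ ·) (pullback.lift_fst _ _ _)).trans (Category.comp_id f)).symm
    · refine (Category.assoc _ _ _).trans ?_
      refine (congrArg (_ ≫ ·) (pullback.lift_snd _ _ _)).trans ?_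
      refine (pullback.lift_snd _ _ _).trans (Eq.trans ?_ (Category.assoc _ _ _).symm)
      refine Eq.trans ?_ (congrArg (f ≫ ·) (pullback.lift_snd _ _ _)).symm
      show pX ≫ s = f ≫ pX' ≫ s
      rw [← Category.assoc, hf]
  have hfib : ∀ (s : Spec (CommRingCat.of k) ⟶ T) (hs : s ≫ q = 𝟙 _),
      Nonempty (@Pic13.fibreMod k _ X ⟨pX⟩ T q s hs ((Scheme.Modules.pullback j).obj M) ≅
        (Scheme.Modules.pullback f).obj (@Pic13.fibreMod k _ X' ⟨pX'⟩ T q s hs M)) := fun s hs =>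
    ⟨(Scheme.Modules.pullbackComp _ _).app M ≪≫ (Scheme.Modules.pullbackCongr (hj s hs)).app M ≪≫
      (Scheme.Modules.pullbackComp _ _).symm.app M⟩
  refine ⟨T, q, hconn, hlft, hqc, (Scheme.Modules.pullback j).obj M,
    PicLoc.isInvertible_pullback j hM, t, t₀, ht, ht₀, ?_, ?_⟩
  · obtain ⟨g⟩ := hfib t ht
    exact ⟨g ≪≫ (Scheme.Modules.pullback f).mapIso e⟩
  · obtain ⟨g⟩ := hfib t₀ ht₀
    exact ⟨g ≪≫ (Scheme.Modules.pullback f).mapIso e₀ ≪≫ PicLoc.pullbackStructureIso f⟩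

/-- The geometric fibres of a family algebraically equivalent to zero, pulled back. -/
theorem isAlgEquivZero_of_algTrivialAt {X S : Scheme.{u}} {p : X ⟶ S} {L : X.Modules}
    {K : Type u} [Field K] [IsAlgClosed K] (ψ : Spec (CommRingCat.of K) ⟶ S)
    (h : AbDual.IsAlgTrivialAt p L (ψ (closedPoint K))) {B : Scheme.{u}}
    (pB : B ⟶ Spec (CommRingCat.of K)) (π : B ⟶ X) (hπ : π ≫ p = pB ≫ ψ) :
    @Pic13.IsAlgEquivZero K _ B ⟨pB⟩ ((Scheme.Modules.pullback π).obj L) := by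
  have h1 := h K ψ (by
    ext z
    simp only [Set.mem_range, Set.mem_singleton_iff]
    constructor
    · rintro ⟨w, rfl⟩
      rw [Subsingleton.elim w (closedPoint K)]
    · rintro rfl
      exact ⟨closedPoint K, rfl⟩)
  have h2 := isAlgEquivZero_pullback pB (pullback.snd p ψ) (pullback.lift π pB hπ)
    (pullback.lift_snd _ _ _) h1
  obtain ⟨T, q, hconn, hlft, hqc, M, hM, t, t₀, ht, ht₀, ⟨e⟩, e₀⟩ := h2
  exact ⟨T, q, hconn, hlft, hqc, M, hM, t, t₀, ht, ht₀, ⟨e ≪≫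
    (Scheme.Modules.pullbackComp _ _).app L ≪≫
    (Scheme.Modules.pullbackCongr (pullback.lift_fst _ _ _)).app L⟩, e₀⟩

/-- `IsPicZeroCl` is stable under morphisms `X_T ⟶ X'_{T'}` over a morphism `T ⟶ T'`. -/
theorem isPicZeroCl_pullCl {X X' S : Scheme.{u}} {f : X ⟶ S} {f' : X' ⟶ S} {T T' : Over S}
    (g : T.left ⟶ T'.left) (m : PicF.XT f T ⟶ PicF.XT f' T')
    (hm : m ≫ PicF.XTproj f' T' = PicF.XTproj f T ≫ g) {c : PicF.Cl (PicF.XT f' T')}
    (hc : AbDual.IsPicZeroCl f' T' c) : AbDual.IsPicZeroCl f T (PicF.pullCl m c) := by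
  obtain ⟨L, rfl, hLi, hL⟩ := hc
  refine ⟨(Scheme.Modules.pullback m).obj L, rfl, PicLoc.isInvertible_pullback m hLi, fun t => ?_⟩
  intro Ω _ _ σ hσ
  let a := pullback.fst (PicF.XTproj f T) σ
  let b := pullback.snd (PicF.XTproj f T) σ
  have hab : (a ≫ m) ≫ PicF.XTproj f' T' = b ≫ σ ≫ g := by
    rw [Category.assoc, hm, ← Category.assoc, pullback.condition, Category.assoc]
  have h := isAlgEquivZero_of_algTrivialAt (σ ≫ g) (hL _) b (a ≫ m) hab
  obtain ⟨T₁, q, hconn, hlft, hqc, M, hM, t₁, t₀, ht, ht₀, ⟨e⟩, e₀⟩ := h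
  exact ⟨T₁, q, hconn, hlft, hqc, M, hM, t₁, t₀, ht, ht₀,
    ⟨e ≪≫ (Scheme.Modules.pullbackComp a m).symm.app L⟩, e₀⟩

end

end Groth.Agent.H4.PicZero
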