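import Groth.Agent.H4.PicZero.AlgEquiv
import Groth.Agent.H4.PicZero.AlgTriv

/-! Families of classes algebraically equivalent to zero over a locally Noetherian base are additive. -/

set_option autoImplicit false
set_option linter.style.haveILetI false

universe u

open CategoryTheory CategoryTheory.Limits MonoidalCategory CartesianMonoidalCategory MonObj AlgebraicGeometry
open Groth.Agent.H3
open IsLocalRing (closedPoint)

namespace Groth.Agent.H4.PicZero

noncomputable section

local instance (Y : Scheme.{u}) : PicGrp.Law Y := Groth.Agent.Lib.TensorMod.Invertible.law Y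

variable {S : Scheme.{u}} {Y U : Over S} [GrpObj Y] [IsProper Y.hom] [GeometricallyIntegral Y.hom]

/-- The geometric fibre of `Y` over `ψ`, inside `Y ⊗ U`. -/
def fibreIncl {K : Type u} [Field K] (ψ : Spec (CommRingCat.of K) ⟶ U.left) :
    ((Over.pullback (ψ ≫ U.hom)).obj Y).left ⟶ (Y ⊗ U).left :=
  pullback.lift (pullback.fst Y.hom (ψ ≫ U.hom)) (pullback.snd Y.hom (ψ ≫ U.hom) ≫ ψ)
    (by rw [Category.assoc]; exact pullback.condition)

omit [GrpObj Y] [IsProper Y.hom] [GeometricallyIntegral Y.hom] in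
/-- Points of the fibre over `ψ` are points of `Y ⊗ U` over `ψ`. -/
theorem exists_fibre_lift {K : Type u} [Field K] (ψ : Spec (CommRingCat.of K) ⟶ U.left) {V : Over S}
    (p : V ⟶ fieldPt ψ) :
    ∃ u : Over.mk p.left ⟶ (Over.pullback (ψ ≫ U.hom)).obj V, ∀ z : V ⟶ Y,
      (u ≫ (Over.pullback (ψ ≫ U.hom)).map z).left ≫ fibreIncl ψ = (lift z (p ≫ fieldPtHom ψ)).left := by
  refine ⟨Over.homMk (pullback.lift (𝟙 V.left) p.left
    ((Category.id_comp _).trans (Over.w p).symm)) (pullback.lift_snd _ _ _), fun z => ?_⟩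
  refine pullback.hom_ext (f := Y.hom) (g := U.hom) ?_ ?_
  · refine Eq.trans ?_ (congrArg Over.Hom.left (lift_fst z (p ≫ fieldPtHom ψ))).symm
    rw [Category.assoc, fibreIncl, pullback.lift_fst]
    show (pullback.lift (𝟙 V.left) p.left _ ≫ pullback.lift (pullback.fst _ _ ≫ z.left) (pullback.snd _ _) _) ≫
      pullback.fst _ _ = z.left
    rw [Category.assoc, pullback.lift_fst, ← Category.assoc, pullback.lift_fst, Category.id_comp]
  · refine Eq.trans ?_ (congrArg Over.Hom.left (lift_snd z (p ≫ fieldPtHom ψ))).symm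
    rw [Category.assoc, fibreIncl, pullback.lift_snd]
    show (pullback.lift (𝟙 V.left) p.left _ ≫ pullback.lift (pullback.fst _ _ ≫ z.left) (pullback.snd _ _) _) ≫
      pullback.snd _ _ ≫ ψ = p.left ≫ ψ
    rw [← Category.assoc]
    congr 1
    rw [Category.assoc, pullback.lift_snd, pullback.lift_snd]

/-- On a geometric fibre, a family algebraically equivalent to zero is additive. -/
theorem defect2_fieldPt {c : PicLoc.PicSet (Y ⊗ U).left} (hc : AbDual.IsPicZeroCl Y.hom U c.1)
    {K : Type u} [Field K] [IsAlgClosed K] (ψ : Spec (CommRingCat.of K) ⟶ U.left)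
    {V : Over S} (x y : V ⟶ Y) (p : V ⟶ fieldPt ψ) :
    defect2 x y (p ≫ fieldPtHom ψ) c = 1 := by
  obtain ⟨L, hLc, hLi, hL⟩ := hc
  let F := Over.pullback (ψ ≫ U.hom)
  letI : GrpObj (F.obj Y) := Functor.grpObjObj (F := F)
  haveI : IsProper (F.obj Y).hom := inferInstanceAs (IsProper (pullback.snd Y.hom (ψ ≫ U.hom)))
  haveI : GeometricallyIntegral (F.obj Y).hom :=
    inferInstanceAs (GeometricallyIntegral (pullback.snd Y.hom (ψ ≫ U.hom)))
  have hπ : fibreIncl (Y := Y) ψ ≫ PicF.XTproj Y.hom U = (F.obj Y).hom ≫ ψ := pullback.lift_snd _ _ _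
  have halg := isAlgEquivZero_of_algTrivialAt ψ (hL _) (F.obj Y).hom (fibreIncl ψ) hπ
  have hL' : PicF.IsInvertible ((Scheme.Modules.pullback (fibreIncl (Y := Y) ψ)).obj L) :=
    PicLoc.isInvertible_pullback _ hLi
  obtain ⟨u, hu⟩ := exists_fibre_lift (Y := Y) ψ p
  let l : PicLoc.PicSet (F.obj Y).left := PicGrp.cls _ hL'
  let G : (V ⟶ Y) → PicLoc.PicSet V.left := fun z => PicCalc.ph (u ≫ F.map z) l
  have hval : ∀ z : V ⟶ Y, PicCalc.ph (lift z (p ≫ fieldPtHom ψ)) c = G z := by
    intro z
    refine Subtype.ext ((PicCalc.ph_val _ _).trans ?_)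
    rw [← hu z, PicLoc.pullCl_comp, ← hLc]
    rfl
  have hmul : G (x * y) = G x * G y := by
    show PicCalc.ph (u ≫ F.map (x * y)) l = PicCalc.ph (u ≫ F.map x) l * PicCalc.ph (u ≫ F.map y) l
    rw [Functor.map_mul, MonObj.comp_mul, ph_mul_of_isAlgEquivZero hL' halg]
  have hone : G 1 = 1 := by
    show PicCalc.ph (u ≫ F.map (1 : V ⟶ Y)) l = 1
    rw [Functor.map_one, MonObj.comp_one, CubeRel.ph_one]
  simp only [defect2, hval, hmul, hone, _root_.mul_one, mul_inv_cancel]

variable [Flat Y.hom] [IsLocallyNoetherian U.left]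

/-- A family of classes algebraically equivalent to zero over a locally Noetherian base is additive. -/
theorem defect2_eq_one {c : PicLoc.PicSet (Y ⊗ U).left} (hc : AbDual.IsPicZeroCl Y.hom U c.1)
    {V : Over S} (x y : V ⟶ Y) (t : V ⟶ U) : defect2 x y t c = 1 := by
  refine defect2_eq_one_of_fibres c (fun s => ?_) x y t
  let K := AlgebraicClosure (U.left.residueField s)
  refine ⟨K, inferInstance,
    Spec.map (CommRingCat.ofHom (algebraMap (U.left.residueField s) K)) ≫ U.left.fromSpecResidueField s,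
    ?_, fun V x y p => defect2_fieldPt hc _ x y p⟩
  rw [Scheme.Hom.comp_apply]
  exact U.left.fromSpecResidueField_apply s _

/-- Pullback along homomorphisms of a family algebraically equivalent to zero is additive, up to the
restriction along the unit section. -/
theorem ph_lift_mul {c : PicLoc.PicSet (Y ⊗ U).left} (hc : AbDual.IsPicZeroCl Y.hom U c.1)
    {V : Over S} (x y : V ⟶ Y) (t : V ⟶ U) :
    PicCalc.ph (lift (x * y) t) c * PicCalc.ph (lift 1 t) c =
      PicCalc.ph (lift x t) c * PicCalc.ph (lift y t) c :=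
  mul_inv_eq_one.1 (defect2_eq_one hc x y t)

end

end Groth.Agent.H4.PicZero
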