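import Groth.Agent.H4.PicZero.RelCube
import Mathlib.AlgebraicGeometry.Geometrically.Connected
import Mathlib.Data.Nat.Choose.Basic

/-! The theorem of the cube for a group scheme over a locally Noetherian base, and pullback by
multiplication by `n`. -/

set_option autoImplicit false
set_option linter.style.haveILetI false

universe u

open CategoryTheory CategoryTheory.Limits MonoidalCategory CartesianMonoidalCategory MonObj AlgebraicGeometry
open Groth.Agent.H3
open IsLocalRing (closedPoint)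

namespace Groth.Agent.H4.PicZero

noncomputable section

local instance cubeBaseLaw (Y : Scheme.{u}) : PicGrp.Law Y := Groth.Agent.Lib.TensorMod.Invertible.law Y

theorem cl_tensorPow {Y : Scheme.{u}} {L : Y.Modules} {a : PicLoc.PicSet Y}
    (ha : PicF.cl L = a.1) (n : ℕ) : PicF.cl (CohB1.tensorPow L n) = (a ^ n).1 := by
  induction n with
  | zero => rw [pow_zero, PicGrp.one_val]; rfl
  | succ n ih => rw [pow_succ]; exact PicCalc.cl_tensor ih ha

theorem pow_recur {G : Type*} [CommGroup G] {F2 F1 F0 o a b : G} {A2 A1 A0 B2 B1 B0 N2 N1 N0 : ℕ}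
    (h : F1 * F1 * a * b = F2 * F0 * o * o) (h1 : F1 * o ^ N1 = a ^ A1 * b ^ B1 * o)
    (h0 : F0 * o ^ N0 = a ^ A0 * b ^ B0 * o) (hN : N2 + N0 = 2 * N1 + 2)
    (hA : A2 + A0 = 2 * A1 + 1) (hB : B2 + B0 = 2 * B1 + 1) :
    F2 * o ^ N2 = a ^ A2 * b ^ B2 * o := by
  refine mul_right_cancel (b := F0 * o ^ N0) ?_
  calc F2 * o ^ N2 * (F0 * o ^ N0) = F2 * F0 * o ^ (N2 + N0) := by
        rw [pow_add]; ac_rfl
    _ = F2 * F0 * o * o * (o ^ N1 * o ^ N1) := by
        rw [hN, pow_add, two_mul, pow_add, pow_two]; ac_rfl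
    _ = (F1 * o ^ N1) * (F1 * o ^ N1) * a * b := by rw [← h]; ac_rfl
    _ = (a ^ A1 * b ^ B1 * o) * (a ^ A1 * b ^ B1 * o) * a * b := by rw [h1]
    _ = a ^ (A2 + A0) * b ^ (B2 + B0) * (o * o) := by
        rw [hA, hB, two_mul, two_mul, pow_add, pow_add, pow_add, pow_add, pow_one, pow_one]; ac_rfl
    _ = a ^ A2 * b ^ B2 * o * (F0 * o ^ N0) := by
        rw [h0, pow_add, pow_add]; ac_rfl

variable {S : Scheme.{u}} {X : Over S} [GrpObj X]

/-- The defect of the theorem of the cube. -/
def defect3 {V : Over S} (f g h : V ⟶ X) (c : PicLoc.PicSet X.left) : PicLoc.PicSet V.left :=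
  PicCalc.ph (f * g * h) c * PicCalc.ph f c * PicCalc.ph g c * PicCalc.ph h c *
    (PicCalc.ph (f * g) c * PicCalc.ph (f * h) c * PicCalc.ph (g * h) c * PicCalc.ph 1 c)⁻¹

theorem ph_defect3 {V V' : Over S} (s : V' ⟶ V) (f g h : V ⟶ X) (c : PicLoc.PicSet X.left) :
    PicCalc.ph s (defect3 f g h c) = defect3 (s ≫ f) (s ≫ g) (s ≫ h) c := by
  simp only [defect3, map_mul, map_inv, ← PicCalc.ph_comp, MonObj.comp_mul, MonObj.comp_one]

theorem defect3_one_left {V : Over S} (g h : V ⟶ X) (c : PicLoc.PicSet X.left) :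
    defect3 1 g h c = 1 := by
  simp only [defect3, _root_.one_mul]
  rw [mul_inv_eq_one]
  ac_rfl

theorem defect3_one_mid {V : Over S} (f h : V ⟶ X) (c : PicLoc.PicSet X.left) :
    defect3 f 1 h c = 1 := by
  simp only [defect3, _root_.one_mul, _root_.mul_one]
  rw [mul_inv_eq_one]
  ac_rfl

theorem defect3_one_right {V : Over S} (f g : V ⟶ X) (c : PicLoc.PicSet X.left) :
    defect3 f g 1 c = 1 := by
  simp only [defect3, _root_.mul_one]
  rw [mul_inv_eq_one]

variable [IsLocallyNoetherian S] [IsProper X.hom] [Flat X.hom] [GeometricallyIntegral X.hom]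

/-- The theorem of the cube over a locally Noetherian base. -/
theorem defect3_eq_one {V : Over S} (f g h : V ⟶ X) (c : PicLoc.PicSet X.left) :
    defect3 f g h c = 1 := by
  let p : X ⊗ X ⊗ X ⟶ X := fst X (X ⊗ X)
  let q : X ⊗ X ⊗ X ⟶ X := snd X (X ⊗ X) ≫ fst X X
  let r : X ⊗ X ⊗ X ⟶ X := snd X (X ⊗ X) ≫ snd X X
  suffices huniv : defect3 p q r c = 1 by
    have e := ph_defect3 (lift f (lift g h)) p q r c
    rw [huniv, map_one] at e
    simp only [p, q, r, lift_fst, lift_snd_assoc, lift_snd] at e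
    exact e.symm
  haveI : IsLocallyNoetherian X.left := LocallyOfFiniteType.isLocallyNoetherian X.hom
  haveI : GeometricallyConnected X.hom := H2.Rigid.GeomIrred.geometricallyConnected X.hom
  haveI : UniversallyOpen X.hom := UniversallyOpen.of_flat X.hom
  have hone : ∀ W : Over S, toUnit W ≫ η[X] = 1 := fun W => Hom.one_def.symm
  refine eq_one_aux η[X] η[X] ?_ ?_ fun x => ?_
  · rw [ph_defect3]
    simp only [p, q, r, lift_fst, lift_snd_assoc, hone, Category.id_comp]
    exact defect3_one_left _ _ c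
  · rw [ph_defect3]
    simp only [p, q, r, lift_fst, lift_snd_assoc, lift_snd, hone]
    exact defect3_one_mid _ _ c
  let K := S.residueField (X.hom x)
  let ψ : Spec (CommRingCat.of K) ⟶ X.left := S.fromSpecResidueField (X.hom x) ≫ η[X].left
  have hψ : ψ (closedPoint K) = η[X].left (X.hom x) := by
    rw [Scheme.Hom.comp_apply]
    exact congrArg η[X].left (S.fromSpecResidueField_apply _ _)
  have hsec : X.hom (η[X].left (X.hom x)) = X.hom x := congr($(Over.w η[X]) (X.hom x))
  refine ⟨η[X].left (X.hom x), ?_, K, inferInstance, ψ, hψ, ?_⟩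
  · exact (X.hom.isConnected_preimage_singleton (X.hom x)).isPreconnected.subset_connectedComponent
      hsec rfl
  rw [ph_defect3]
  have hw : (fieldPtHom ψ : fieldPt ψ ⟶ X) = 1 := by
    rw [← hone]
    apply Over.OverMorphism.ext
    rw [Over.comp_left, Over.toUnit_left]
    show S.fromSpecResidueField _ ≫ η[X].left =
      ((S.fromSpecResidueField _ ≫ η[X].left) ≫ X.hom) ≫ η[X].left
    rw [Category.assoc _ η[X].left X.hom, Over.w η[X]]
    congr 1
  have e : (X ◁ (X ◁ fieldPtHom ψ)) ≫ r = 1 := by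
    have e' : (X ◁ (X ◁ fieldPtHom ψ)) ≫ r =
        (snd X (X ⊗ fieldPt ψ) ≫ snd X (fieldPt ψ)) ≫ fieldPtHom ψ := by simp [r]
    rw [e', hw, MonObj.comp_one]
  rw [e]
  exact defect3_one_right _ _ c

theorem cube_rel3 {V : Over S} (f g h : V ⟶ X) (c : PicLoc.PicSet X.left) :
    PicCalc.ph (f * g * h) c * PicCalc.ph f c * PicCalc.ph g c * PicCalc.ph h c =
      PicCalc.ph (f * g) c * PicCalc.ph (f * h) c * PicCalc.ph (g * h) c * PicCalc.ph 1 c :=
  mul_inv_eq_one.1 (defect3_eq_one f g h c)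

/-- Pullback by `n`, for `n : ℕ`. -/
theorem ph_pow_base {V : Over S} (x : V ⟶ X) (c : PicLoc.PicSet X.left) (n : ℕ) :
    PicCalc.ph (x ^ n) c * PicCalc.ph (1 : V ⟶ X) c ^ (n * n) =
      PicCalc.ph x c ^ (n + 1).choose 2 * PicCalc.ph x⁻¹ c ^ n.choose 2 * PicCalc.ph (1 : V ⟶ X) c := by
  set o := PicCalc.ph (1 : V ⟶ X) c with ho
  set a := PicCalc.ph x c with ha
  set b := PicCalc.ph x⁻¹ c with hb
  induction n using Nat.strong_induction_on with
  | _ n ih =>
    match n with
    | 0 => simp [ho]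
    | 1 => simp [ha]
    | m + 2 =>
      have h := cube_rel3 (x ^ (m + 1)) x x⁻¹ c
      rw [show x ^ (m + 1) * x * x⁻¹ = x ^ (m + 1) from mul_inv_cancel_right _ _,
        show x ^ (m + 1) * x = x ^ (m + 2) from (pow_succ x (m + 1)).symm,
        show x ^ (m + 1) * x⁻¹ = x ^ m by rw [pow_succ, mul_inv_cancel_right],
        mul_inv_cancel, ← ho, ← ha, ← hb] at h
      have h1 := ih (m + 1) (by omega)
      have h0 := ih m (by omega)
      have e : ∀ j : ℕ, (j + 1).choose 2 = j + j.choose 2 := fun j => by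
        rw [Nat.choose_succ_succ, Nat.choose_one_right]
      have e2 := e (m + 2); have e1 := e (m + 1); have e0 := e m
      have e1' : (m + 2).choose 2 = m + 1 + (m + 1).choose 2 := e1
      exact pow_recur h h1 h0 (by ring) (by omega) (by omega)

end

end Groth.Agent.H4.PicZero
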