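import Groth.Agent.H4.PicZero.Transpose

/-! Calculus of transposes: uniqueness, composition, products. -/

set_option autoImplicit false
set_option linter.style.haveILetI false

universe u

open CategoryTheory CategoryTheory.Limits MonoidalCategory CartesianMonoidalCategory MonObj AlgebraicGeometry
open Groth.Agent.H3

namespace Groth.Agent.H4.PicZero

noncomputable section

local instance (Y : Scheme.{u}) : PicGrp.Law Y := Groth.Agent.Lib.TensorMod.Invertible.law Y

variable {S : Scheme.{u}} {X Y Z Xt Yt Zt : Over S}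
  {φX : ∀ T : Over S, PicF.Cl (PicF.XT X.hom T) → (T ⟶ Xt)}
  {φY : ∀ T : Over S, PicF.Cl (PicF.XT Y.hom T) → (T ⟶ Yt)}
  {φZ : ∀ T : Over S, PicF.Cl (PicF.XT Z.hom T) → (T ⟶ Zt)}

theorem isPicZeroCl_bcMap (f : X ⟶ Y) {T : Over S} {c : PicF.Cl (PicF.XT Y.hom T)}
    (hc : AbDual.IsPicZeroCl Y.hom T c) :
    AbDual.IsPicZeroCl X.hom T (PicF.pullCl (AbDual.bcMap f T) c) := by
  refine isPicZeroCl_pullCl (𝟙 T.left) _ ?_ hc
  rw [AbDual.bcMap, pullback.lift_snd]

/-- Transposes compose. -/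
theorem isTranspose_comp {f : X ⟶ Y} {g : Y ⟶ Z} {ft : Yt ⟶ Xt} {gt : Zt ⟶ Yt}
    (hf : AbDual.IsTranspose f φX φY ft) (hg : AbDual.IsTranspose g φY φZ gt) :
    AbDual.IsTranspose (f ≫ g) φX φZ (gt ≫ ft) := by
  intro T c hc
  rw [bcMap_eq, comp_whiskerRight, Over.comp_left, PicLoc.pullCl_comp, ← bcMap_eq, ← bcMap_eq,
    hf T _ (isPicZeroCl_bcMap g hc), hg T c hc, Category.assoc]

/-- The transpose of the identity is the identity. -/
theorem isTranspose_id : AbDual.IsTranspose (𝟙 X) φX φX (𝟙 Xt) := by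
  intro T c _
  rw [bcMap_eq, id_whiskerRight, Over.id_left, Category.comp_id]
  exact congrArg (φX T) (PicLoc.pullCl_id c)

/-- Transposes are unique. -/
theorem transpose_unique [GrpObj Yt] (hY : AbDual.IsDualAV Scheme.fppfPrecoverage Y Yt φY)
    {f : X ⟶ Y} {ft ft' : Yt ⟶ Xt}
    (h : AbDual.IsTranspose f φX φY ft) (h' : AbDual.IsTranspose f φX φY ft') : ft = ft' := by
  obtain ⟨R, hR, hloc⟩ := hY.relPic.locallySurjective Yt (𝟙 Yt)
  obtain ⟨hcov, hprop⟩ := fppf_cover_props hR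
  apply Over.OverMorphism.ext
  refine hom_ext_of_fppf fun x => ?_
  obtain ⟨U, u, hu, hx⟩ := hcov x
  obtain ⟨c, hc, hφ⟩ := hloc u hu
  rw [Category.comp_id] at hφ
  refine ⟨U, u, (hprop u hu).1, hx, ?_⟩
  have e := (h _ c hc).symm.trans (h' _ c hc)
  rw [hφ] at e
  exact congrArg Over.Hom.left e

variable [GrpObj X] [GrpObj Xt] [GrpObj Y] [GrpObj Yt] [IsLocallyNoetherian S] [IsProper Y.hom]
  [Flat Y.hom] [GeometricallyIntegral Y.hom] [LocallyOfFiniteType Yt.hom]
  (hX : AbDual.IsDualAV Scheme.fppfPrecoverage X Xt φX)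
  (hY : AbDual.IsDualAV Scheme.fppfPrecoverage Y Yt φY)

include hX hY

omit [GrpObj X] in
/-- Transposes are additive. -/
theorem isTranspose_mul {f g : X ⟶ Y} {ft gt : Yt ⟶ Xt} (hf : AbDual.IsTranspose f φX φY ft)
    (hg : AbDual.IsTranspose g φX φY gt) : AbDual.IsTranspose (f * g) φX φY (ft * gt) := by
  intro T c hc
  rw [phi_pullback_mul hX hY f g hc, hf T c hc, hg T c hc, MonObj.comp_mul]

omit [GrpObj X] in
/-- The transpose of the trivial homomorphism is trivial. -/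
theorem isTranspose_one : AbDual.IsTranspose (1 : X ⟶ Y) φX φY 1 := by
  intro T c hc
  have e := phi_pullback_mul hX hY (1 : X ⟶ Y) 1 hc
  rw [_root_.one_mul] at e
  rw [MonObj.comp_one]
  exact (left_eq_mul (a := φX T (PicF.pullCl (AbDual.bcMap (1 : X ⟶ Y) T) c))).1 e

omit [GrpObj X] in
/-- Transposes of powers. -/
theorem isTranspose_pow {f : X ⟶ Y} {ft : Yt ⟶ Xt} (hf : AbDual.IsTranspose f φX φY ft) (n : ℕ) :
    AbDual.IsTranspose (f ^ n) φX φY (ft ^ n) := by
  induction n with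
  | zero => rw [pow_zero, pow_zero]; exact isTranspose_one hX hY
  | succ n ih => rw [pow_succ, pow_succ]; exact isTranspose_mul hX hY ih hf

end

end Groth.Agent.H4.PicZero
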