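import Groth.Agent.H4.PicZero.Quasi

/-! The transpose of an isogeny is an isogeny: it is killed by, and divides, multiplication by `n`. -/

set_option autoImplicit false
set_option linter.style.haveILetI false

universe u

open CategoryTheory CategoryTheory.Limits MonoidalCategory CartesianMonoidalCategory MonObj AlgebraicGeometry
open Groth.Agent.H3

namespace Groth.Agent.H4.PicZero

noncomputable section

local instance isogenyLaw (Y : Scheme.{u}) : PicGrp.Law Y := Groth.Agent.Lib.TensorMod.Invertible.law Y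

variable {S : Scheme.{u}} [IsLocallyNoetherian S] {X Y Xt Yt O : Over S} [GrpObj X] [GrpObj Y]
  [GrpObj Xt] [GrpObj Yt]
  [IsProper X.hom] [Flat X.hom] [GeometricallyIntegral X.hom] [LocallyOfFiniteType Xt.hom]
  [IsProper Y.hom] [Flat Y.hom] [GeometricallyIntegral Y.hom] [LocallyOfFiniteType Yt.hom]
  {φX : ∀ T : Over S, PicF.Cl (PicF.XT X.hom T) → (T ⟶ Xt)}
  {φY : ∀ T : Over S, PicF.Cl (PicF.XT Y.hom T) → (T ⟶ Yt)}
  (hX : AbDual.IsDualAV Scheme.fppfPrecoverage X Xt φX)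
  (hY : AbDual.IsDualAV Scheme.fppfPrecoverage Y Yt φY)
  {φ : X ⟶ Y} {ft : Yt ⟶ Xt} (hft : AbDual.IsTranspose φ φX φY ft)
  {n : ℕ} {m : Y ⊗ O ⟶ X ⊗ O} (hm : m ≫ snd X O = snd Y O)
  (hml : (φ ▷ O) ≫ m = (𝟙 X ^ n) ▷ O) (hmr : m ≫ (φ ▷ O) = (𝟙 Y ^ n) ▷ O)

omit [IsLocallyNoetherian S] [GrpObj X] [GrpObj Y] [GrpObj Xt] [GrpObj Yt] [IsProper X.hom]
  [Flat X.hom] [GeometricallyIntegral X.hom] [LocallyOfFiniteType Xt.hom] [IsProper Y.hom]
  [Flat Y.hom] [GeometricallyIntegral Y.hom] [LocallyOfFiniteType Yt.hom] in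
include hm in
/-- The quasi-inverse over a scheme over `O`. -/
theorem exists_pullback_hom {T : Over S} (h : T ⟶ O) :
    ∃ mT : Y ⊗ T ⟶ X ⊗ T, mT ≫ snd X T = snd Y T ∧
      mT ≫ (X ◁ h) = (Y ◁ h) ≫ m := by
  refine ⟨lift ((Y ◁ h) ≫ m ≫ fst X O) (snd Y T), lift_snd _ _, ?_⟩
  apply CartesianMonoidalCategory.hom_ext
  · simp
  · simp only [Category.assoc, whiskerLeft_snd, lift_snd_assoc, hm]

include hm hml hmr hX hY hft in
/-- Points killed by the transpose are killed by `n`, and `n` times every point is locally in the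
image of the transpose. -/
theorem transpose_bounds :
    (∀ {T : Over S} (_ : T ⟶ O) (g : T ⟶ Yt), g ≫ ft = 1 → g ^ n = 1) ∧
    (∀ {T : Over S} (_ : T ⟶ O) (g : T ⟶ Xt) (x : T.left),
      ∃ (U : Over S) (u : U ⟶ T) (z : U.left) (b : U ⟶ Yt),
        u.left z = x ∧ b ≫ ft = (u ≫ g) ^ n) := by
  constructor
  · intro T h g hg
    apply Over.OverMorphism.ext
    refine hom_ext_of_fppf fun x => ?_
    obtain ⟨R, hR, hloc⟩ := hY.relPic.locallySurjective T g
    obtain ⟨hcov, hprop⟩ := fppf_cover_props hR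
    obtain ⟨U, u, hu, y, hy⟩ := hcov x
    obtain ⟨cU, hcU, hφU⟩ := hloc u hu
    obtain ⟨a, rfl⟩ : ∃ a : PicLoc.PicSet (Y ⊗ AbDual.ovr T u).left, a.1 = cU := by
      obtain ⟨L, hL, hLi, -⟩ := hcU
      exact ⟨PicGrp.cls L hLi, hL⟩
    let U' := AbDual.ovr T u
    have e0 : φX U' (PicCalc.ph (φ ▷ U') a).1 = φX U' (PicCalc.ph ((1 : X ⟶ Y) ▷ U') a).1 := by
      rw [PicCalc.ph_val, PicCalc.ph_val, ← bcMap_eq, ← bcMap_eq, hft _ _ hcU,
        isTranspose_one hX hY _ _ hcU, hφU, Category.assoc, hg, MonObj.comp_one, MonObj.comp_one]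
    have hz : ∀ z : X ⟶ Y, AbDual.IsPicZeroCl X.hom U' (PicCalc.ph (z ▷ U') a).1 := fun z =>
      isPicZeroCl_ph (𝟙 U') (z ▷ U') (by rw [whiskerRight_snd, Category.comp_id]) hcU
    obtain ⟨R₂, hR₂, hloc₂⟩ := hX.relPic.locallyInjective U' _ _ (hz φ) (hz 1) e0
    obtain ⟨hcov₂, hprop₂⟩ := fppf_cover_props hR₂
    obtain ⟨W, w, hw, z, hz'⟩ := hcov₂ y
    haveI := (hprop u hu).1
    haveI := (hprop₂ w hw).1
    refine ⟨W, w ≫ u, inferInstance, ⟨z, ?_⟩, ?_⟩
    · rw [Scheme.Hom.comp_apply, hz', hy]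
    let W' := AbDual.ovr U' w
    let wh : W' ⟶ U' := AbDual.ovrHom U' w
    have heq : PicCalc.ph (X ◁ wh) (PicCalc.ph (φ ▷ U') a) =
        PicCalc.ph (X ◁ wh) (PicCalc.ph ((1 : X ⟶ Y) ▷ U') a) := by
      apply Subtype.ext
      rw [PicCalc.ph_val _ (PicCalc.ph _ a), PicCalc.ph_val _ (PicCalc.ph _ a), ← XTmap_eq]
      exact hloc₂ w hw
    obtain ⟨mT, hmT, hmTO⟩ := exists_pullback_hom hm (wh ≫ AbDual.ovrHom T u ≫ h)
    let aW := PicCalc.ph (Y ◁ wh) a
    have hzW : AbDual.IsPicZeroCl Y.hom W' aW.1 := isPicZeroCl_ph wh _ (whiskerLeft_snd Y wh) hcU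
    have hr : mT ≫ (φ ▷ W') = (𝟙 Y ^ n) ▷ W' := by
      apply CartesianMonoidalCategory.hom_ext
      · have e := congrArg (fun t => (Y ◁ (wh ≫ AbDual.ovrHom T u ≫ h)) ≫ t ≫ fst Y O) hmr
        simp only [Category.assoc, whiskerRight_fst, whiskerLeft_fst_assoc] at e
        rw [← reassoc_of% hmTO] at e
        simp only [whiskerLeft_fst_assoc] at e
        simp only [Category.assoc, whiskerRight_fst]
        exact e
      · simp [hmT]
    have hkey : PicCalc.ph ((𝟙 Y ^ n) ▷ W') aW = PicCalc.ph ((1 : Y ⟶ Y) ▷ W') aW := by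
      have h1 : (X ◁ wh) ≫ (φ ▷ U') = (φ ▷ W') ≫ (Y ◁ wh) := whisker_exchange _ _
      have h2 : mT ≫ (X ◁ wh) ≫ ((1 : X ⟶ Y) ▷ U') = ((1 : Y ⟶ Y) ▷ W') ≫ (Y ◁ wh) := by
        apply CartesianMonoidalCategory.hom_ext
        · simp [MonObj.comp_one]
        · simp [reassoc_of% hmT]
      rw [← hr, PicCalc.ph_comp, ← PicCalc.ph_comp (φ ▷ W'), ← h1, PicCalc.ph_comp, heq,
        ← PicCalc.ph_comp (X ◁ wh), ← PicCalc.ph_comp mT, h2, PicCalc.ph_comp]
    have hpow := isTranspose_pow hY hY (isTranspose_id (X := Y) (φX := φY)) n W' aW.1 hzW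
    rw [bcMap_eq, ← PicCalc.ph_val, hkey, PicCalc.ph_val, ← bcMap_eq,
      isTranspose_one hY hY W' aW.1 hzW, MonObj.comp_one,
      MonObj.comp_pow, Category.comp_id, phi_natural hY wh hcU, hφU, ← Category.assoc,
      ← MonObj.comp_pow] at hpow
    have e := hpow.symm.trans (MonObj.comp_one (wh ≫ AbDual.ovrHom T u)).symm
    exact congrArg Over.Hom.left e
  · intro T h g x
    obtain ⟨R, hR, hloc⟩ := hX.relPic.locallySurjective T g
    obtain ⟨hcov, hprop⟩ := fppf_cover_props hR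
    obtain ⟨U, u, hu, y, hy⟩ := hcov x
    obtain ⟨cU, hcU, hφU⟩ := hloc u hu
    obtain ⟨a, rfl⟩ : ∃ a : PicLoc.PicSet (X ⊗ AbDual.ovr T u).left, a.1 = cU := by
      obtain ⟨L, hL, hLi, -⟩ := hcU
      exact ⟨PicGrp.cls L hLi, hL⟩
    let U' := AbDual.ovr T u
    obtain ⟨mT, hmT, hmTO⟩ := exists_pullback_hom hm (AbDual.ovrHom T u ≫ h)
    have hb : AbDual.IsPicZeroCl Y.hom U' (PicCalc.ph mT a).1 :=
      isPicZeroCl_ph (𝟙 U') mT (by rw [hmT, Category.comp_id]) hcU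
    refine ⟨U', AbDual.ovrHom T u, y, φY U' (PicCalc.ph mT a).1, hy, ?_⟩
    have hl : (φ ▷ U') ≫ mT = (𝟙 X ^ n) ▷ U' := by
      apply CartesianMonoidalCategory.hom_ext
      · have e := congrArg (fun t => (X ◁ (AbDual.ovrHom T u ≫ h)) ≫ t ≫ fst X O) hml
        simp only [Category.assoc, whiskerRight_fst, whiskerLeft_fst_assoc] at e
        rw [whisker_exchange_assoc, ← reassoc_of% hmTO] at e
        simp only [whiskerLeft_fst] at e
        simp only [U', Category.assoc, whiskerRight_fst]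
        exact e
      · simp [U', hmT]
    rw [← hft _ _ hb, bcMap_eq, ← PicCalc.ph_val, ← PicCalc.ph_comp, hl, PicCalc.ph_val, ← bcMap_eq,
      isTranspose_pow hX hX (isTranspose_id (X := X) (φX := φX)) n U' a.1 hcU, MonObj.comp_pow,
      Category.comp_id, hφU]

end

end Groth.Agent.H4.PicZero
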