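import Groth.Agent.H4.PicZero.Family
import Mathlib.AlgebraicGeometry.Morphisms.Flat
import Mathlib.AlgebraicGeometry.Limits

/-! Duals: pullback of classes along a product of homomorphisms. -/

set_option autoImplicit false
set_option linter.style.haveILetI false

universe u

open CategoryTheory CategoryTheory.Limits MonoidalCategory CartesianMonoidalCategory MonObj AlgebraicGeometry
open Groth.Agent.H3
open IsLocalRing (closedPoint)

namespace Groth.Agent.H4.PicZero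

noncomputable section

local instance (Y : Scheme.{u}) : PicGrp.Law Y := Groth.Agent.Lib.TensorMod.Invertible.law Y

/-- The members of an fppf covering are flat, locally of finite presentation and jointly surjective. -/
theorem fppf_cover_props {T : Scheme.{u}} {R : Presieve T} (hR : R ∈ Scheme.fppfPrecoverage T) :
    (∀ x : T, ∃ (U : Scheme.{u}) (u : U ⟶ T), R u ∧ x ∈ Set.range u) ∧
      ∀ ⦃U : Scheme.{u}⦄ (u : U ⟶ T), R u → Flat u ∧ LocallyOfFinitePresentation u := by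
  obtain ⟨J, Z, f, rfl⟩ := R.exists_eq_ofArrows
  rw [Scheme.fppfPrecoverage, Scheme.ofArrows_mem_precoverage_iff] at hR
  refine ⟨fun x => ?_, ?_⟩
  · obtain ⟨i, hi⟩ := hR.1 x
    exact ⟨_, f i, Presieve.ofArrows.mk i, hi⟩
  · rintro U u ⟨i⟩
    exact hR.2 i

/-- Morphisms are separated by jointly surjective flat families. -/
theorem hom_ext_of_fppf {T X : Scheme.{u}} {g h : T ⟶ X}
    (H : ∀ x : T, ∃ (U : Scheme.{u}) (u : U ⟶ T), Flat u ∧ x ∈ Set.range u ∧ u ≫ g = u ≫ h) : g = h := by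
  choose U u hflat hx hu using H
  haveI : ∀ x, Flat (u x) := hflat
  let d : (∐ U) ⟶ T := Sigma.desc u
  haveI : Flat d := IsZariskiLocalAtSource.sigmaDesc (P := @Flat) hflat
  haveI : Surjective d := ⟨fun x => by
    obtain ⟨y, hy⟩ := hx x
    refine ⟨Sigma.ι U x y, ?_⟩
    rw [← Scheme.Hom.comp_apply, Sigma.ι_desc]
    exact hy⟩
  haveI : Epi d := Flat.epi_of_flat_of_surjective d
  rw [← cancel_epi d]
  exact Sigma.hom_ext _ _ fun x => by simpa [d] using hu x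

section Dual

variable {S : Scheme.{u}}

theorem XTmap_eq (X : Over S) {T T' : Over S} (g : T' ⟶ T) :
    PicF.XTmap X.hom g = (X ◁ g).left := by
  refine pullback.hom_ext (f := X.hom) (g := T.hom) ?_ ?_
  · refine (pullback.lift_fst _ _ _).trans ((Category.comp_id _).trans ?_)
    exact (congrArg Over.Hom.left (whiskerLeft_fst X g)).symm
  · refine (pullback.lift_snd _ _ _).trans ?_
    exact (congrArg Over.Hom.left (whiskerLeft_snd X g)).symm

theorem bcMap_eq {X Y : Over S} (f : X ⟶ Y) (T : Over S) : AbDual.bcMap f T = (f ▷ T).left := by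
  refine pullback.hom_ext (f := Y.hom) (g := T.hom) ?_ ?_
  · refine (pullback.lift_fst _ _ _).trans ?_
    exact (congrArg Over.Hom.left (whiskerRight_fst f T)).symm
  · refine (pullback.lift_snd _ _ _).trans ((Category.comp_id _).trans ?_)
    exact (congrArg Over.Hom.left (whiskerRight_snd f T)).symm

/-- Being in `Pic⁰` is stable under the maps `X ⊗ T ⟶ X' ⊗ T'` lying over `T ⟶ T'`. -/
theorem isPicZeroCl_ph {X X' T T' : Over S} (g : T ⟶ T') (m : X ⊗ T ⟶ X' ⊗ T')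
    (hm : m ≫ snd X' T' = snd X T ≫ g) {a : PicLoc.PicSet (X' ⊗ T').left}
    (ha : AbDual.IsPicZeroCl X'.hom T' a.1) :
    AbDual.IsPicZeroCl X.hom T (PicCalc.ph m a).1 := by
  rw [PicCalc.ph_val]
  exact isPicZeroCl_pullCl g.left m.left (congrArg Over.Hom.left hm) ha

variable {X Xt : Over S} [GrpObj X] [GrpObj Xt]
  {φX : ∀ T : Over S, PicF.Cl (PicF.XT X.hom T) → (T ⟶ Xt)}
  (hX : AbDual.IsDualAV Scheme.fppfPrecoverage X Xt φX)

include hX

omit [GrpObj X] in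
theorem phi_mul {T : Over S} {a b : PicLoc.PicSet (X ⊗ T).left}
    (ha : AbDual.IsPicZeroCl X.hom T a.1) (hb : AbDual.IsPicZeroCl X.hom T b.1) :
    φX T (a * b).1 = φX T a.1 * φX T b.1 := by
  obtain ⟨L, hL, rfl⟩ := PicGrp.exists_eq_cls a
  obtain ⟨M, hM, rfl⟩ := PicGrp.exists_eq_cls b
  rw [← PicCalc.cl_tensor (a := PicGrp.cls L hL) (b := PicGrp.cls M hM) rfl rfl]
  exact hX.mul T L M ha hb

omit [GrpObj X] in
theorem phi_natural {T T' : Over S} (g : T' ⟶ T) {a : PicLoc.PicSet (X ⊗ T).left}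
    (ha : AbDual.IsPicZeroCl X.hom T a.1) :
    φX T' (PicCalc.ph (X ◁ g) a).1 = g ≫ φX T a.1 := by
  rw [PicCalc.ph_val, ← XTmap_eq]
  exact hX.relPic.natural T T' g _ ha

omit [GrpObj X] in
theorem phi_one {T : Over S} (h : AbDual.IsPicZeroCl X.hom T (1 : PicLoc.PicSet (X ⊗ T).left).1) :
    φX T (1 : PicLoc.PicSet (X ⊗ T).left).1 = 1 := by
  have e := phi_mul hX h h
  rw [_root_.mul_one] at e
  exact (left_eq_mul (a := φX T (1 : PicLoc.PicSet (X ⊗ T).left).1)).1 e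

omit [GrpObj X] in
/-- Classes pulled back from the base go to the trivial point. -/
theorem phi_snd {T : Over S} (n : PicLoc.PicSet T.left)
    (h : AbDual.IsPicZeroCl X.hom T (PicCalc.ph (snd X T) n).1) :
    φX T (PicCalc.ph (snd X T) n).1 = 1 := by
  obtain ⟨L, hL, rfl⟩ := PicGrp.exists_eq_cls n
  apply Over.OverMorphism.ext
  refine hom_ext_of_fppf fun x => ?_
  obtain ⟨O, hO, ⟨e⟩⟩ := hL x
  let O' : Over S := Over.mk (O.ι ≫ T.hom)
  let j : O' ⟶ T := Over.homMk O.ι rfl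
  refine ⟨O'.left, O.ι, inferInstanceAs (Flat O.ι), ⟨⟨x, hO⟩, rfl⟩, ?_⟩
  have htriv : PicCalc.ph j (PicGrp.cls L hL) = 1 := by
    apply Subtype.ext
    rw [PicCalc.ph_val, PicGrp.one_val]
    exact Quot.sound ⟨(Scheme.Modules.restrictFunctorIsoPullback O.ι).symm.app L ≪≫ e⟩
  have h1 : PicCalc.ph (X ◁ j) (PicCalc.ph (snd X T) (PicGrp.cls L hL)) = 1 := by
    rw [← PicCalc.ph_comp, whiskerLeft_snd, PicCalc.ph_comp, htriv, map_one]
  have h2 := phi_natural hX j h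
  rw [h1] at h2
  have h3 : j ≫ φX T (PicCalc.ph (snd X T) (PicGrp.cls L hL)).1 = 1 := by
    rw [← h2]
    refine phi_one hX ?_
    rw [← h1]
    exact isPicZeroCl_ph j (X ◁ j) (whiskerLeft_snd X j) h
  have h4 := h3.trans (MonObj.comp_one j).symm
  exact congrArg Over.Hom.left h4

variable [IsLocallyNoetherian S] {Y Yt : Over S} [GrpObj Y] [IsProper Y.hom] [Flat Y.hom]
  [GeometricallyIntegral Y.hom] [GrpObj Yt] [LocallyOfFiniteType Yt.hom]
  {φY : ∀ T : Over S, PicF.Cl (PicF.XT Y.hom T) → (T ⟶ Yt)}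
  (hY : AbDual.IsDualAV Scheme.fppfPrecoverage Y Yt φY)

include hY

omit [GrpObj X] in
/-- The point of a pullback along a product of two maps into `Y` is the product of the points. -/
theorem phi_pullback_mul (f g : X ⟶ Y) {T : Over S} {c : PicF.Cl (PicF.XT Y.hom T)}
    (hc : AbDual.IsPicZeroCl Y.hom T c) :
    φX T (PicF.pullCl (AbDual.bcMap (f * g) T) c) =
      φX T (PicF.pullCl (AbDual.bcMap f T) c) * φX T (PicF.pullCl (AbDual.bcMap g T) c) := by
  obtain ⟨a, rfl⟩ : ∃ a : PicLoc.PicSet (Y ⊗ T).left, a.1 = c := by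
    obtain ⟨L, hL, hLi, -⟩ := hc
    exact ⟨PicGrp.cls L hLi, hL⟩
  simp only [bcMap_eq]
  show φX T (PicCalc.ph ((f * g) ▷ T) a).1 =
    φX T (PicCalc.ph (f ▷ T) a).1 * φX T (PicCalc.ph (g ▷ T) a).1
  have hz : ∀ z : X ⟶ Y, AbDual.IsPicZeroCl X.hom T (PicCalc.ph (z ▷ T) a).1 := fun z =>
    isPicZeroCl_ph (𝟙 T) (z ▷ T) (by rw [whiskerRight_snd, Category.comp_id]) hc
  haveI : IsLocallyNoetherian Yt.left := LocallyOfFiniteType.isLocallyNoetherian Yt.hom
  obtain ⟨R, hR, hloc⟩ := hY.relPic.locallySurjective Yt (𝟙 Yt)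
  obtain ⟨hcov, hprop⟩ := fppf_cover_props hR
  apply Over.OverMorphism.ext
  refine hom_ext_of_fppf fun x => ?_
  -- pull the covering of `Yt` back to `T`
  obtain ⟨U, u, hu, y, hy⟩ := hcov ((φY T a.1).left x)
  obtain ⟨cU, hcU, hφU⟩ := hloc u hu
  obtain ⟨hflat, hlfp⟩ := hprop u hu
  haveI := hflat
  haveI := hlfp
  haveI : IsLocallyNoetherian (AbDual.ovr Yt u).left := LocallyOfFiniteType.isLocallyNoetherian u
  obtain ⟨a', rfl⟩ : ∃ a' : PicLoc.PicSet (Y ⊗ AbDual.ovr Yt u).left, a'.1 = cU := by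
    obtain ⟨L, hL, hLi, -⟩ := hcU
    exact ⟨PicGrp.cls L hLi, hL⟩
  let P := pullback (φY T a.1).left u
  let T₁ : Over S := Over.mk (pullback.fst (φY T a.1).left u ≫ T.hom)
  let v₁ : T₁ ⟶ T := Over.homMk (pullback.fst (φY T a.1).left u) rfl
  let h₁ : T₁ ⟶ AbDual.ovr Yt u := Over.homMk (pullback.snd (φY T a.1).left u) (by
    show pullback.snd (φY T a.1).left u ≫ u ≫ Yt.hom = pullback.fst (φY T a.1).left u ≫ T.hom
    rw [← Category.assoc, ← pullback.condition, Category.assoc, Over.w (φY T a.1)])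
  obtain ⟨x₁, hx₁, -⟩ := Scheme.Pullback.exists_preimage_pullback (f := (φY T a.1).left) (g := u) x y hy.symm
  have hzero1 : AbDual.IsPicZeroCl Y.hom T₁ (PicCalc.ph (Y ◁ v₁) a).1 :=
    isPicZeroCl_ph v₁ _ (whiskerLeft_snd Y v₁) hc
  have hzero2 : AbDual.IsPicZeroCl Y.hom T₁ (PicCalc.ph (Y ◁ h₁) a').1 :=
    isPicZeroCl_ph h₁ _ (whiskerLeft_snd Y h₁) hcU
  have hsame : φY T₁ (PicCalc.ph (Y ◁ v₁) a).1 = φY T₁ (PicCalc.ph (Y ◁ h₁) a').1 := by
    rw [phi_natural hY v₁ hc, phi_natural hY h₁ hcU, hφU, Category.comp_id]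
    exact Over.OverMorphism.ext pullback.condition
  obtain ⟨R₂, hR₂, hloc₂⟩ := hY.relPic.locallyInjective T₁ _ _ hzero1 hzero2 hsame
  obtain ⟨hcov₂, hprop₂⟩ := fppf_cover_props hR₂
  obtain ⟨W, w, hw, z, hz'⟩ := hcov₂ x₁
  haveI := (hprop₂ w hw).1
  refine ⟨W, w ≫ v₁.left, inferInstanceAs (Flat (w ≫ pullback.fst (φY T a.1).left u)), ⟨z, ?_⟩, ?_⟩
  · rw [Scheme.Hom.comp_apply, hz']
    exact hx₁
  let W' := AbDual.ovr T₁ w
  let wv : W' ⟶ T := AbDual.ovrHom T₁ w ≫ v₁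
  let wh : W' ⟶ AbDual.ovr Yt u := AbDual.ovrHom T₁ w ≫ h₁
  have heq : PicCalc.ph (Y ◁ wv) a = PicCalc.ph (Y ◁ wh) a' := by
    rw [whiskerLeft_comp, whiskerLeft_comp, PicCalc.ph_comp, PicCalc.ph_comp]
    apply Subtype.ext
    rw [PicCalc.ph_val _ (PicCalc.ph _ a), PicCalc.ph_val _ (PicCalc.ph _ a'), ← XTmap_eq]
    exact hloc₂ w hw
  -- additivity over the locally Noetherian cover
  have hcl : ∀ z : X ⟶ Y, PicCalc.ph (X ◁ wv) (PicCalc.ph (z ▷ T) a) =
      PicCalc.ph (lift (fst X W' ≫ z) (snd X W' ≫ wh)) a' := by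
    intro z
    rw [← PicCalc.ph_comp, whisker_exchange, PicCalc.ph_comp, heq, ← PicCalc.ph_comp]
    refine congrArg (fun m => PicCalc.ph m a') ?_
    apply CartesianMonoidalCategory.hom_ext <;> simp
  have hadd := ph_lift_mul (Y := Y) hcU (fst X W' ≫ f) (fst X W' ≫ g) (snd X W' ≫ wh)
  have hone : PicCalc.ph (lift (1 : X ⊗ W' ⟶ Y) (snd X W' ≫ wh)) a' =
      PicCalc.ph (snd X W') (PicCalc.ph (lift (1 : W' ⟶ Y) wh) a') := by
    rw [← PicCalc.ph_comp, comp_lift, MonObj.comp_one]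
  have hcl1 : PicCalc.ph (X ◁ wv) (PicCalc.ph ((1 : X ⟶ Y) ▷ T) a) =
      PicCalc.ph (snd X W') (PicCalc.ph (lift (1 : W' ⟶ Y) wh) a') := by
    rw [hcl, MonObj.comp_one, hone]
  rw [← MonObj.comp_mul, ← hcl, ← hcl, ← hcl, hone, ← hcl1] at hadd
  have hzW : ∀ z : X ⟶ Y,
      AbDual.IsPicZeroCl X.hom W' (PicCalc.ph (X ◁ wv) (PicCalc.ph (z ▷ T) a)).1 := fun z =>
    isPicZeroCl_ph wv _ (whiskerLeft_snd X wv) (hz z)
  have key := congrArg (fun e : PicLoc.PicSet (X ⊗ W').left => φX W' e.1) hadd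
  change φX W' (_ * _ : PicLoc.PicSet (X ⊗ W').left).1 = φX W' (_ * _ : PicLoc.PicSet (X ⊗ W').left).1 at key
  rw [phi_mul hX (hzW _) (hzW _), phi_mul hX (hzW _) (hzW _)] at key
  have h1 : φX W' (PicCalc.ph (X ◁ wv) (PicCalc.ph ((1 : X ⟶ Y) ▷ T) a)).1 = 1 := by
    rw [hcl1]
    refine phi_snd hX _ ?_
    rw [← hcl1]
    exact hzW 1
  rw [h1, _root_.mul_one, phi_natural hX wv (hz _), phi_natural hX wv (hz _),
    phi_natural hX wv (hz _), ← MonObj.comp_mul] at key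
  exact congrArg Over.Hom.left key

end Dual

end

end Groth.Agent.H4.PicZero
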