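import Groth.Agent.Lib.Cube.Finiteness
import Groth.Agent.Lib.Cube.OverField
import Groth.Agent.H3.PicCalc
import Groth.Agent.Lib.TensorMod.Invertible
import Groth.Agent.H2.Rigid.NoethSection
import Groth.Agent.H2.Rigid.GeomIrred

/-! The theorem of the cube over an arbitrary base, with a locally Noetherian third factor. -/

set_option autoImplicit false
set_option linter.style.haveILetI false

universe u

open CategoryTheory CategoryTheory.Limits MonoidalCategory CartesianMonoidalCategory AlgebraicGeometry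
open Groth.Agent.H3 Groth.Agent.Lib.Cube
open IsLocalRing (closedPoint)

namespace Groth.Agent.H4.PicZero

noncomputable section

local instance (Y : Scheme.{u}) : PicGrp.Law Y := Groth.Agent.Lib.TensorMod.Invertible.law Y

variable {S : Scheme.{u}}

/-- The point of `Z` given by a morphism from the spectrum of a field. -/
abbrev fieldPt {Z : Over S} {K : Type u} [Field K] (ψ : Spec (CommRingCat.of K) ⟶ Z.left) : Over S :=
  Over.mk (ψ ≫ Z.hom)

/-- Its map to `Z`. -/
abbrev fieldPtHom {Z : Over S} {K : Type u} [Field K] (ψ : Spec (CommRingCat.of K) ⟶ Z.left) :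
    fieldPt ψ ⟶ Z := Over.homMk ψ rfl

variable {X Y Z : Over S} [IsProper X.hom] [Flat X.hom] [GeometricallyIntegral X.hom]
  [IsProper Y.hom] [Flat Y.hom] [GeometricallyIntegral Y.hom] [IsLocallyNoetherian Z.left]
  (x₀ : 𝟙_ (Over S) ⟶ X) (y₀ : 𝟙_ (Over S) ⟶ Y)

omit [IsProper X.hom] [Flat X.hom] [GeometricallyIntegral X.hom] [IsProper Y.hom] [Flat Y.hom]
  [GeometricallyIntegral Y.hom] [IsLocallyNoetherian Z.left] in
theorem isPullback_slices : IsPullback (lift (fst X (Y ⊗ Z)) (snd X (Y ⊗ Z) ≫ snd Y Z)).left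
    (snd X (Y ⊗ Z)).left (snd X Z).left (snd Y Z).left := by
  have h1 : IsPullback (fst X Z).left (snd X Z).left X.hom Z.hom := IsPullback.of_hasPullback X.hom Z.hom
  have h2 : IsPullback (fst X (Y ⊗ Z)).left (snd X (Y ⊗ Z)).left X.hom (Y ⊗ Z).hom :=
    IsPullback.of_hasPullback X.hom (Y ⊗ Z).hom
  refine IsPullback.of_right ?_ ?_ h1
  · rw [← Over.comp_left, lift_fst, Over.w (snd Y Z)]
    exact h2
  · rw [← Over.comp_left, ← Over.comp_left, lift_snd]

/-- The data of the theorem of the cube with base `Z`. -/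
def relCtx {ι : Type u} {U : ι → (X ⊗ Y ⊗ Z).left.Opens} (hU : ∀ a, IsAffineOpen (U a))
    (hUc : iSup U = ⊤) (c : Groth.Agent.H97.GlueLine.Cocycle U)
    (hx : Triv.TrivAlong c (lift (toUnit (Y ⊗ Z) ≫ x₀) (𝟙 (Y ⊗ Z))).left)
    (hy : Triv.TrivAlong c (lift (fst X Z) (lift (toUnit (X ⊗ Z) ≫ y₀) (snd X Z))).left) :
    Ctx Z.left where
  X := (X ⊗ Z).left
  Y := (Y ⊗ Z).left
  W := (X ⊗ Y ⊗ Z).left
  px := (snd X Z).left
  py := (snd Y Z).left
  fx := (lift (fst X (Y ⊗ Z)) (snd X (Y ⊗ Z) ≫ snd Y Z)).left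
  fy := (snd X (Y ⊗ Z)).left
  H := isPullback_slices
  isProper_px := inferInstanceAs (IsProper (pullback.snd X.hom Z.hom))
  flat_px := inferInstanceAs (Flat (pullback.snd X.hom Z.hom))
  isProper_py := inferInstanceAs (IsProper (pullback.snd Y.hom Z.hom))
  flat_py := inferInstanceAs (Flat (pullback.snd Y.hom Z.hom))
  hx := by
    haveI : GeometricallyConnected X.hom := H2.Rigid.GeomIrred.geometricallyConnected X.hom
    exact (H2.Rigid.H0.of_geometrically X.hom).pullback_snd X.hom Z.hom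
  hy := by
    haveI : GeometricallyConnected Y.hom := H2.Rigid.GeomIrred.geometricallyConnected Y.hom
    exact (H2.Rigid.H0.of_geometrically Y.hom).pullback_snd Y.hom Z.hom
  x₀ := (lift (toUnit Z ≫ x₀) (𝟙 Z)).left
  hx₀ := by rw [← Over.comp_left, lift_snd, Over.id_left]
  y₀ := (lift (toUnit Z ≫ y₀) (𝟙 Z)).left
  hy₀ := by rw [← Over.comp_left, lift_snd, Over.id_left]
  i := (lift (toUnit (Y ⊗ Z) ≫ x₀) (𝟙 (Y ⊗ Z))).left
  hi₁ := by
    rw [← Over.comp_left, ← Over.comp_left]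
    congr 1
    apply CartesianMonoidalCategory.hom_ext <;>
      simp only [Category.assoc, lift_fst, lift_snd, lift_fst_assoc, lift_snd_assoc, comp_toUnit_assoc,
        Category.id_comp, Category.comp_id, comp_lift_assoc, comp_lift]
  hi₂ := by rw [← Over.comp_left, lift_snd, Over.id_left]
  j := (lift (fst X Z) (lift (toUnit (X ⊗ Z) ≫ y₀) (snd X Z))).left
  hj₁ := by
    rw [← Over.comp_left, ← Over.id_left]
    congr 1
    apply CartesianMonoidalCategory.hom_ext <;>
      simp only [Category.assoc, lift_fst, lift_snd, lift_fst_assoc, lift_snd_assoc, comp_toUnit_assoc,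
        Category.id_comp, Category.comp_id, comp_lift_assoc, comp_lift]
  hj₂ := by
    rw [← Over.comp_left, ← Over.comp_left]
    congr 1
    apply CartesianMonoidalCategory.hom_ext <;>
      simp only [Category.assoc, lift_fst, lift_snd, lift_fst_assoc, lift_snd_assoc, comp_toUnit_assoc,
        Category.id_comp, Category.comp_id, comp_lift_assoc, comp_lift]
  ι := ι
  U := U
  hU := hU
  hUc := hUc
  c := c
  hi := hx
  hj := hy

variable {c : PicLoc.PicSet (X ⊗ Y ⊗ Z).left}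

/-- The theorem of the cube over `Z`: a class trivial on both slices is trivial as soon as it is
trivial on one fibre in every connected component; here in two forms at once. -/
theorem eq_one_aux
    (hx : PicCalc.ph (lift (toUnit (Y ⊗ Z) ≫ x₀) (𝟙 (Y ⊗ Z))) c = 1)
    (hy : PicCalc.ph (lift (fst X Z) (lift (toUnit (X ⊗ Z) ≫ y₀) (snd X Z))) c = 1)
    (h : ∀ s : Z.left, ∃ z : Z.left, s ∈ connectedComponent z ∧
      ∃ (K : Type u) (_ : Field K) (ψ : Spec (CommRingCat.of K) ⟶ Z.left),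
        ψ (closedPoint K) = z ∧ PicCalc.ph (X ◁ (Y ◁ fieldPtHom ψ)) c = 1) :
    c = 1 := by
  obtain ⟨L, hL, rfl⟩ := PicGrp.exists_eq_cls c
  rw [PicGrp.cls_eq_one_iff hL]
  have hph : ∀ {V : Over S} (s : V ⟶ X ⊗ Y ⊗ Z), PicCalc.ph s (PicGrp.cls L hL) = 1 →
      Nonempty ((Scheme.Modules.pullback s.left).obj L ≅ Coh.structureModule V.left) := fun s hs =>
    (PicCalc.iso_iff (PicCalc.cl_pullback s (a := PicGrp.cls L hL) rfl)
      (b := (1 : PicLoc.PicSet _)) PicGrp.one_val.symm).2 hs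
  obtain ⟨ι, U, hU, hUc, e, he, c, hc⟩ := Triv.exists_cocycle hL
  have iff := fun {P : Scheme.{u}} (f : P ⟶ (X ⊗ Y ⊗ Z).left) => Triv.trivAlong_iff e he c hc hUc f
  let C := relCtx x₀ y₀ hU hUc c ((iff _).2 (hph _ hx)) ((iff _).2 (hph _ hy))
  haveI : GeometricallyIntegral C.px := inferInstanceAs (GeometricallyIntegral (pullback.snd X.hom Z.hom))
  haveI : GeometricallyReduced C.py := inferInstanceAs (GeometricallyReduced (pullback.snd Y.hom Z.hom))
  -- the given fibres
  have hgiven : ∀ (K : Type u) [Field K] (ψ : Spec (CommRingCat.of K) ⟶ Z.left),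
      PicCalc.ph (X ◁ (Y ◁ fieldPtHom ψ)) (PicGrp.cls L hL) = 1 → Global.Fib C (ψ (closedPoint K)) := by
    intro K _ ψ hψ
    let T : Over S := Over.mk (C.bcBase ψ ≫ ψ ≫ Z.hom)
    have e1 : C.pw ≫ Z.hom = (X ⊗ Y ⊗ Z).hom := by
      show ((lift (fst X (Y ⊗ Z)) (snd X (Y ⊗ Z) ≫ snd Y Z)).left ≫ (snd X Z).left) ≫ Z.hom = _
      rw [← Over.comp_left, Over.w]
    let b : T ⟶ X ⊗ Y ⊗ Z := Over.homMk (C.bcMap ψ) (by
      show C.bcMap ψ ≫ (X ⊗ Y ⊗ Z).hom = C.bcBase ψ ≫ ψ ≫ Z.hom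
      rw [← e1, ← Category.assoc, pullback.condition, Category.assoc])
    let p : T ⟶ fieldPt ψ := Over.homMk (C.bcBase ψ) rfl
    let b' : T ⟶ X ⊗ Y ⊗ fieldPt ψ :=
      lift (b ≫ fst _ _) (lift (b ≫ snd _ _ ≫ fst _ _) p)
    have hbp : b ≫ snd X (Y ⊗ Z) ≫ snd Y Z = p ≫ fieldPtHom ψ := by
      apply Over.OverMorphism.ext
      show C.bcMap ψ ≫ (snd X (Y ⊗ Z)).left ≫ C.py = C.bcBase ψ ≫ ψ
      exact (congrArg (C.bcMap ψ ≫ ·) (Ctx.pw_eq C).symm).trans pullback.condition
    have hb : b' ≫ (X ◁ (Y ◁ fieldPtHom ψ)) = b := by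
      apply CartesianMonoidalCategory.hom_ext
      · simp [b']
      · apply CartesianMonoidalCategory.hom_ext
        · simp [b']
        · simp only [b', Category.assoc, whiskerLeft_snd_assoc, whiskerLeft_snd, lift_snd_assoc,
            lift_snd]
          exact hbp.symm
    have h2 : PicCalc.ph b (PicGrp.cls L hL) = 1 := by
      rw [← hb, PicCalc.ph_comp, hψ, map_one]
    exact Global.fib_of (C := C) rfl ((iff (C.bcMap ψ)).2 (hph b h2))
  -- fibrewise triviality spreads over components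
  let G : Set Z.left := {s | Global.Fib C s}
  have hGo : IsOpen G := isOpen_iff_forall_mem_open.2 fun s hs => by
    obtain ⟨V, hsV, v, hu, hv⟩ := Global.exists_nhd Finiteness.finH1 hs
    exact ⟨V, fun t ht => Global.fib_of_sec hu hv ht, V.isOpen, hsV⟩
  have hGc : IsClosed G := H2.Rigid.NoethSection.isClosed_of_isOpen hGo
    fun a b hab ha => Global.fib_of_specializes hab ha
  have hall : ∀ s, Global.Fib C s := fun s => by
    obtain ⟨z, hz, K, _, ψ, rfl, hψ⟩ := h s
    exact (IsClopen.connectedComponent_subset ⟨hGc, hGo⟩ (hgiven K ψ hψ)) hz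
  have key := Rigid.trivAlong_of_local C fun s => Global.exists_nhd Finiteness.finH1 (hall s)
  obtain ⟨i⟩ := (iff (𝟙 _)).1 key
  exact ⟨(Scheme.Modules.pullbackId _).symm.app L ≪≫ i⟩

/-- The theorem of the cube over `Z`, from triviality on all fibres. -/
theorem eq_one_of_fibres
    (hx : PicCalc.ph (lift (toUnit (Y ⊗ Z) ≫ x₀) (𝟙 (Y ⊗ Z))) c = 1)
    (hy : PicCalc.ph (lift (fst X Z) (lift (toUnit (X ⊗ Z) ≫ y₀) (snd X Z))) c = 1)
    (h : ∀ s : Z.left, ∃ (K : Type u) (_ : Field K) (ψ : Spec (CommRingCat.of K) ⟶ Z.left),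
      ψ (closedPoint K) = s ∧ PicCalc.ph (X ◁ (Y ◁ fieldPtHom ψ)) c = 1) :
    c = 1 :=
  eq_one_aux x₀ y₀ hx hy fun s => ⟨s, mem_connectedComponent, h s⟩

/-- The theorem of the cube over a connected `Z`, from triviality on one fibre. -/
theorem eq_one_of_fibre [ConnectedSpace Z.left]
    (hx : PicCalc.ph (lift (toUnit (Y ⊗ Z) ≫ x₀) (𝟙 (Y ⊗ Z))) c = 1)
    (hy : PicCalc.ph (lift (fst X Z) (lift (toUnit (X ⊗ Z) ≫ y₀) (snd X Z))) c = 1)
    (K : Type u) [Field K] (ψ : Spec (CommRingCat.of K) ⟶ Z.left)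
    (h : PicCalc.ph (X ◁ (Y ◁ fieldPtHom ψ)) c = 1) :
    c = 1 := by
  have hs : ∀ s : Z.left, s ∈ connectedComponent (ψ (closedPoint K)) := fun s => by
    rw [PreconnectedSpace.connectedComponent_eq_univ]; trivial
  exact eq_one_aux (X := X) (Y := Y) (Z := Z) (c := c) x₀ y₀ hx hy fun s =>
    ⟨ψ (closedPoint K), hs s, K, inferInstance, ψ, rfl, h⟩

end

end Groth.Agent.H4.PicZero
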