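import Groth.Agent.H4.PicZero.RelCube
import Groth.Agent.H3.CubeRel
import Groth.Prelude.Def_AbDual

/-! A class algebraically equivalent to zero on an abelian variety is additive in the point. -/

set_option autoImplicit false
set_option linter.style.haveILetI false

universe u

open CategoryTheory CategoryTheory.Limits MonoidalCategory CartesianMonoidalCategory MonObj AlgebraicGeometry
open Groth.Agent.H3
open IsLocalRing (closedPoint)

namespace Groth.Agent.H4.PicZero

noncomputable section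

local instance (Y : Scheme.{u}) : PicGrp.Law Y := Groth.Agent.Lib.TensorMod.Invertible.law Y

section defect

variable {S : Scheme.{u}} {A T : Over S} [GrpObj A]

/-- The defect of additivity of a family of classes on `A` parametrised by `T`. -/
def defect2 {V : Over S} (x y : V ⟶ A) (t : V ⟶ T) (c : PicLoc.PicSet (A ⊗ T).left) :
    PicLoc.PicSet V.left :=
  PicCalc.ph (lift (x * y) t) c * PicCalc.ph (lift 1 t) c *
    (PicCalc.ph (lift x t) c * PicCalc.ph (lift y t) c)⁻¹

theorem ph_defect2 {V V' : Over S} (s : V' ⟶ V) (x y : V ⟶ A) (t : V ⟶ T)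
    (c : PicLoc.PicSet (A ⊗ T).left) :
    PicCalc.ph s (defect2 x y t c) = defect2 (s ≫ x) (s ≫ y) (s ≫ t) c := by
  simp only [defect2, map_mul, map_inv, ← PicCalc.ph_comp, comp_lift, MonObj.comp_mul,
    MonObj.comp_one]

theorem defect2_one_left {V : Over S} (y : V ⟶ A) (t : V ⟶ T) (c : PicLoc.PicSet (A ⊗ T).left) :
    defect2 1 y t c = 1 := by
  simp only [defect2, _root_.one_mul]
  rw [mul_inv_eq_one]
  ac_rfl

theorem defect2_one_right {V : Over S} (x : V ⟶ A) (t : V ⟶ T) (c : PicLoc.PicSet (A ⊗ T).left) :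
    defect2 x 1 t c = 1 := by
  simp only [defect2, _root_.mul_one]
  rw [mul_inv_eq_one]

variable [IsProper A.hom] [Flat A.hom] [GeometricallyIntegral A.hom] [IsLocallyNoetherian T.left]

/-- The universal defect vanishes as soon as it vanishes on enough fibres. -/
theorem defect2_eq_one_of_fibres (c : PicLoc.PicSet (A ⊗ T).left)
    (h : ∀ s : T.left, ∃ (K : Type u) (_ : Field K) (ψ : Spec (CommRingCat.of K) ⟶ T.left),
      ψ (closedPoint K) = s ∧ ∀ (V : Over S) (x y : V ⟶ A) (p : V ⟶ fieldPt ψ),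
        defect2 x y (p ≫ fieldPtHom ψ) c = 1)
    {V : Over S} (x y : V ⟶ A) (t : V ⟶ T) : defect2 x y t c = 1 := by
  let p : A ⊗ A ⊗ T ⟶ A := fst A (A ⊗ T)
  let q : A ⊗ A ⊗ T ⟶ A := snd A (A ⊗ T) ≫ fst A T
  let r : A ⊗ A ⊗ T ⟶ T := snd A (A ⊗ T) ≫ snd A T
  suffices huniv : defect2 p q r c = 1 by
    have e := ph_defect2 (lift x (lift y t)) p q r c
    rw [huniv, map_one] at e
    simp only [p, q, r, lift_fst, lift_snd_assoc, lift_snd] at e
    exact e.symm
  have hone : ∀ W : Over S, toUnit W ≫ η[A] = 1 := fun W => Hom.one_def.symm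
  refine eq_one_of_fibres η[A] η[A] ?_ ?_ fun s => ?_
  · rw [ph_defect2]
    simp only [p, q, r, lift_fst, lift_snd_assoc, hone, Category.id_comp]
    exact defect2_one_left _ _ c
  · rw [ph_defect2]
    simp only [p, q, r, lift_fst, lift_snd_assoc, hone]
    exact defect2_one_right _ _ c
  · obtain ⟨K, _, ψ, hψ, hK⟩ := h s
    refine ⟨K, inferInstance, ψ, hψ, ?_⟩
    rw [ph_defect2]
    have e : (A ◁ (A ◁ fieldPtHom ψ)) ≫ r =
        (snd A (A ⊗ fieldPt ψ) ≫ snd A (fieldPt ψ)) ≫ fieldPtHom ψ := by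
      simp [r]
    rw [e]
    exact hK _ _ _ _

/-- Over a connected parameter space, one fibre suffices. -/
theorem defect2_eq_one_of_fibre [ConnectedSpace T.left] (c : PicLoc.PicSet (A ⊗ T).left)
    (K : Type u) [Field K] (ψ : Spec (CommRingCat.of K) ⟶ T.left)
    (h : ∀ (V : Over S) (x y : V ⟶ A) (p : V ⟶ fieldPt ψ), defect2 x y (p ≫ fieldPtHom ψ) c = 1)
    {V : Over S} (x y : V ⟶ A) (t : V ⟶ T) : defect2 x y t c = 1 := by
  let p : A ⊗ A ⊗ T ⟶ A := fst A (A ⊗ T)
  let q : A ⊗ A ⊗ T ⟶ A := snd A (A ⊗ T) ≫ fst A T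
  let r : A ⊗ A ⊗ T ⟶ T := snd A (A ⊗ T) ≫ snd A T
  suffices huniv : defect2 p q r c = 1 by
    have e := ph_defect2 (lift x (lift y t)) p q r c
    rw [huniv, map_one] at e
    simp only [p, q, r, lift_fst, lift_snd_assoc, lift_snd] at e
    exact e.symm
  have hone : ∀ W : Over S, toUnit W ≫ η[A] = 1 := fun W => Hom.one_def.symm
  refine eq_one_of_fibre η[A] η[A] ?_ ?_ K ψ ?_
  · rw [ph_defect2]
    simp only [p, q, r, lift_fst, lift_snd_assoc, hone, Category.id_comp]
    exact defect2_one_left _ _ c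
  · rw [ph_defect2]
    simp only [p, q, r, lift_fst, lift_snd_assoc, hone]
    exact defect2_one_right _ _ c
  · rw [ph_defect2]
    have e : (A ◁ (A ◁ fieldPtHom ψ)) ≫ r =
        (snd A (A ⊗ fieldPt ψ) ≫ snd A (fieldPt ψ)) ≫ fieldPtHom ψ := by
      simp [r]
    rw [e]
    exact h _ _ _ _

end defect

variable {k : Type u} [Field k] {A : Over (Spec (CommRingCat.of k))} [GrpObj A] [IsProper A.hom]
  [GeometricallyIntegral A.hom]

/-- A class algebraically equivalent to zero on an abelian variety is additive in the point. -/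
theorem ph_mul_of_isAlgEquivZero {L : A.left.Modules} (hL : PicF.IsInvertible L)
    (h : @Pic13.IsAlgEquivZero k _ A.left ⟨A.hom⟩ L) {V : Over (Spec (CommRingCat.of k))}
    (x y : V ⟶ A) :
    PicCalc.ph (x * y) (PicGrp.cls L hL) =
      PicCalc.ph x (PicGrp.cls L hL) * PicCalc.ph y (PicGrp.cls L hL) := by
  letI : A.left.Over (Spec (CommRingCat.of k)) := ⟨A.hom⟩
  obtain ⟨T, q, hconn, hlft, -, M, hM, t, t₀, ht, ht₀, ⟨e⟩, ⟨e₀⟩⟩ := h
  let T' : Over (Spec (CommRingCat.of k)) := Over.mk q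
  haveI : LocallyOfFiniteType T'.hom := hlft
  haveI : IsLocallyNoetherian T'.left := LocallyOfFiniteType.isLocallyNoetherian T'.hom
  haveI : ConnectedSpace T'.left := hconn
  let M' : (A ⊗ T').left.Modules := M
  have hM' : PicF.IsInvertible M' := hM
  let c : PicLoc.PicSet (A ⊗ T').left := PicGrp.cls M' hM'
  let pt : ∀ s : Spec (CommRingCat.of k) ⟶ T, s ≫ q = 𝟙 _ → (𝟙_ _ ⟶ T') := fun s hs => Over.homMk s hs
  have hslice : ∀ (s : Spec (CommRingCat.of k) ⟶ T) (hs : s ≫ q = 𝟙 _) (N : A.left.Modules)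
      (hN : PicF.IsInvertible N), (Pic13.fibreMod k A.left q s hs M ≅ N) →
      ∀ {W : Over (Spec (CommRingCat.of k))} (z : W ⟶ A),
        PicCalc.ph (lift z (toUnit W ≫ pt s hs)) c = PicCalc.ph z (PicGrp.cls N hN) := by
    intro s hs N hN eN W z
    let σ : A ⟶ A ⊗ T' := lift (𝟙 A) (toUnit A ≫ pt s hs)
    have e1 : σ.left = Pic13.sliceAt k A.left q s hs := by
      refine pullback.hom_ext (f := A.hom) (g := T'.hom) ?_ ?_
      · refine (congrArg Over.Hom.left (lift_fst (𝟙 A) (toUnit A ≫ pt s hs))).trans ?_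
        exact (pullback.lift_fst _ _ _).symm
      · refine (congrArg Over.Hom.left (lift_snd (𝟙 A) (toUnit A ≫ pt s hs))).trans ?_
        exact (pullback.lift_snd _ _ _).symm
    have e2 : lift z (toUnit W ≫ pt s hs) = z ≫ σ := by
      rw [comp_lift, Category.comp_id, comp_toUnit_assoc]
    rw [e2, PicCalc.ph_comp]
    congr 1
    apply Subtype.ext
    rw [PicCalc.ph_val, e1]
    exact Quot.sound ⟨eN⟩
  have h0 : ∀ (V : Over (Spec (CommRingCat.of k))) (x y : V ⟶ A) (p : V ⟶ fieldPt (Z := T') t₀),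
      defect2 x y (p ≫ fieldPtHom (Z := T') t₀) c = 1 := by
    intro V x y p
    have ep : p ≫ fieldPtHom (Z := T') t₀ = toUnit V ≫ pt t₀ ht₀ := by
      apply Over.OverMorphism.ext
      show p.left ≫ t₀ = (toUnit V).left ≫ t₀
      congr 1
      rw [Over.toUnit_left, ← Over.w p]
      show p.left = p.left ≫ t₀ ≫ q
      rw [ht₀]
      exact (Category.comp_id _).symm
    have h1 : PicGrp.cls (Coh.structureModule A.left) (PicLoc.isInvertible_structureModule A.left) =
        (1 : PicLoc.PicSet A.left) := Subtype.ext PicGrp.one_val.symm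
    simp only [defect2, ep, hslice t₀ ht₀ _ (PicLoc.isInvertible_structureModule A.left) e₀, h1, map_one,
      _root_.mul_one, inv_one]
  have key := defect2_eq_one_of_fibre c k t₀ h0 x y (toUnit V ≫ pt t ht)
  simp only [defect2, hslice t ht L hL e, CubeRel.ph_one, _root_.mul_one] at key
  exact mul_inv_eq_one.1 key

end

end Groth.Agent.H4.PicZero
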