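import Groth.Agent.H4.PicZero.CubeBase
import Groth.Agent.H4.MulIso
import Groth.Agent.S8124

/-! A class with `[n]^* c = c ^ n` for some `n ≥ 2` is primitive. -/

set_option autoImplicit false
set_option linter.style.haveILetI false

universe u

open CategoryTheory CategoryTheory.Limits MonoidalCategory CartesianMonoidalCategory MonObj AlgebraicGeometry
open Groth.Agent.H3

namespace Groth.Agent.H4.PicZero

noncomputable section

local instance primitiveLaw (Y : Scheme.{u}) : PicGrp.Law Y := Groth.Agent.Lib.TensorMod.Invertible.law Y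

variable {k : Type u} [Field k] {X : Over (Spec (CommRingCat.of k))} [GrpObj X]

/-- The defect of additivity of a class. -/
def mumDef (c : PicLoc.PicSet X.left) {V : Over (Spec (CommRingCat.of k))} (x y : V ⟶ X) :
    PicLoc.PicSet V.left :=
  PicCalc.ph (x * y) c * (PicCalc.ph x c * PicCalc.ph y c)⁻¹

theorem ph_mumDef (c : PicLoc.PicSet X.left) {V V' : Over (Spec (CommRingCat.of k))} (s : V' ⟶ V)
    (x y : V ⟶ X) : PicCalc.ph s (mumDef c x y) = mumDef c (s ≫ x) (s ≫ y) := by
  simp only [mumDef, map_mul, map_inv, ← PicCalc.ph_comp, MonObj.comp_mul]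

theorem mumDef_one_left (c : PicLoc.PicSet X.left) {V : Over (Spec (CommRingCat.of k))} (y : V ⟶ X) :
    mumDef c 1 y = 1 := by
  simp only [mumDef, _root_.one_mul, CubeRel.ph_one, mul_inv_cancel]

theorem mumDef_one_right (c : PicLoc.PicSet X.left) {V : Over (Spec (CommRingCat.of k))} (x : V ⟶ X) :
    mumDef c x 1 = 1 := by
  simp only [mumDef, _root_.mul_one, CubeRel.ph_one, mul_inv_cancel]

variable [IsProper X.hom] [GeometricallyIntegral X.hom]

theorem mumDef_mul_right (c : PicLoc.PicSet X.left) {V : Over (Spec (CommRingCat.of k))}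
    (x y z : V ⟶ X) : mumDef c x (y * z) = mumDef c x y * mumDef c x z := by
  haveI := isCommMonObj_of_isProper_of_geometricallyIntegral X
  have e : PicCalc.ph (x * y * z) c = PicCalc.ph (x * y) c * PicCalc.ph (x * z) c *
      PicCalc.ph (y * z) c * (PicCalc.ph x c * PicCalc.ph y c * PicCalc.ph z c)⁻¹ := by
    rw [eq_mul_inv_iff_mul_eq, ← CubeRel.cube_rel x y z c]
    ac_rfl
  simp only [mumDef, ← _root_.mul_assoc x y z, e]
  rw [← div_eq_mul_inv, ← div_eq_mul_inv, ← div_eq_mul_inv, ← div_eq_mul_inv]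
  simp only [div_eq_mul_inv, _root_.mul_inv_rev]
  rw [_root_.mul_assoc]
  calc _ = (PicCalc.ph (x * y) c * PicCalc.ph (x * z) c *
        ((PicCalc.ph z c)⁻¹ * ((PicCalc.ph y c)⁻¹ * (PicCalc.ph x c)⁻¹) * (PicCalc.ph x c)⁻¹)) *
        (PicCalc.ph (y * z) c * (PicCalc.ph (y * z) c)⁻¹) := by ac_rfl
    _ = _ := by rw [mul_inv_cancel, _root_.mul_one]; ac_rfl

theorem mumDef_comm (c : PicLoc.PicSet X.left) {V : Over (Spec (CommRingCat.of k))} (x y : V ⟶ X) :
    mumDef c x y = mumDef c y x := by
  haveI := isCommMonObj_of_isProper_of_geometricallyIntegral X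
  simp only [mumDef, _root_.mul_comm x y, _root_.mul_comm (PicCalc.ph x c)]

theorem mumDef_pow_right (c : PicLoc.PicSet X.left) {V : Over (Spec (CommRingCat.of k))}
    (x y : V ⟶ X) (m : ℕ) : mumDef c x (y ^ m) = mumDef c x y ^ m := by
  induction m with
  | zero => simp only [pow_zero, mumDef_one_right]
  | succ m ih => rw [pow_succ, pow_succ, mumDef_mul_right, ih]

theorem mumDef_pow_pow (c : PicLoc.PicSet X.left) {V : Over (Spec (CommRingCat.of k))}
    (x y : V ⟶ X) (a b : ℕ) : mumDef c (x ^ a) (y ^ b) = mumDef c x y ^ (a * b) := by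
  rw [mumDef_pow_right, mumDef_comm, mumDef_pow_right, mumDef_comm, ← pow_mul]

/-- `[n]^* c = c ^ n` makes the defect torsion. -/
theorem mumDef_torsion (c : PicLoc.PicSet X.left) {n : ℕ}
    (hc : PicCalc.ph ((𝟙 X : X ⟶ X) ^ n) c = c ^ n) {V : Over (Spec (CommRingCat.of k))}
    (x y : V ⟶ X) : mumDef c x y ^ (n * n - n) = 1 := by
  haveI := isCommMonObj_of_isProper_of_geometricallyIntegral X
  have hn : ∀ z : V ⟶ X, PicCalc.ph (z ^ n) c = PicCalc.ph z c ^ n := by
    intro z
    conv_lhs => rw [← Category.comp_id z, ← MonObj.comp_pow, PicCalc.ph_comp, hc, map_pow]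
  have h : mumDef c x y ^ n = mumDef c x y ^ (n * n) := by
    rw [← mumDef_pow_pow]
    simp only [mumDef]
    rw [← mul_pow x y, hn, hn, hn, mul_pow, inv_pow, mul_pow]
  rcases Nat.eq_zero_or_pos n with rfl | hpos
  · simp
  · have hle : n ≤ n * n := Nat.le_mul_of_pos_left n hpos
    rw [pow_sub _ hle, ← h, mul_inv_cancel]

/-- A class with `[n]^* c = c ^ n` for some `n ≥ 2` is primitive. -/
theorem mul_eq_of_pow (c : PicLoc.PicSet X.left) {n : ℕ} (hn : 2 ≤ n)
    (hc : PicCalc.ph ((𝟙 X : X ⟶ X) ^ n) c = c ^ n) :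
    PicCalc.ph (fst X X * snd X X) c = PicCalc.ph (fst X X) c * PicCalc.ph (snd X X) c := by
  haveI := isCommMonObj_of_isProper_of_geometricallyIntegral X
  let N := n * n - n
  have hN : 0 < N := Nat.sub_pos_of_lt (lt_mul_of_one_lt_left (by omega) (by omega))
  let d := mumDef c (fst X X) (snd X X)
  suffices hd : d = 1 from mul_inv_eq_one.1 hd
  obtain ⟨D, hD, hDc⟩ := PicGrp.exists_eq_cls d
  let f := (snd X X).left
  haveI : Flat X.hom := inferInstance
  haveI : IsProper f := inferInstanceAs (IsProper (pullback.snd X.hom X.hom))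
  haveI : Flat f := inferInstanceAs (Flat (pullback.snd X.hom X.hom))
  haveI : GeometricallyIntegral f := inferInstanceAs (GeometricallyIntegral (pullback.snd X.hom X.hom))
  haveI : IsLocallyNoetherian X.left := LocallyOfFiniteType.isLocallyNoetherian X.hom
  haveI : IsIntegral X.left := GeometricallyIntegral.isIntegral_of_subsingleton X.hom
  haveI : Surjective f := inferInstanceAs (Surjective (pullback.snd X.hom X.hom))
  obtain ⟨hH, -⟩ := Lib.Cube.SeesawCons.h0_of_geometricallyIntegral f
  have hfib : ∀ y : X.left, Nonempty ((Scheme.Modules.pullback (f.fiberι y)).obj D ≅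
      Coh.structureModule (f.fiber y)) := by
    intro y
    obtain ⟨-, -, hsurj⟩ := MulIso.nat X hN
    obtain ⟨y', rfl⟩ := ((𝟙 X : X ⟶ X) ^ N).left.surjective y
    let F := ((𝟙 X : X ⟶ X) ^ N).left
    letI : Algebra (X.left.residueField (F y')) (X.left.residueField y') :=
      (F.residueFieldMap y').hom.toAlgebra
    let pf : f.fiber (F y') ⟶ Spec (CommRingCat.of (X.left.residueField (F y') : Type u)) :=
      f.fiberToSpecResidueField (F y')
    haveI : IsProper pf := inferInstanceAs (IsProper (pullback.snd f _))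
    haveI : GeometricallyIntegral pf := inferInstanceAs (GeometricallyIntegral (pullback.snd f _))
    refine S8124.result (X.left.residueField (F y') : Type u) _ pf _
      (PicLoc.isInvertible_pullback (f.fiberι (F y')) hD) (X.left.residueField y') ?_
    let σ := Spec.map (CommRingCat.ofHom
      (algebraMap (X.left.residueField (F y')) (X.left.residueField y')))
    let P := pullback (f.fiberToSpecResidueField (F y')) σ
    let π₀ : P ⟶ (X ⊗ X).left := pullback.fst (f.fiberToSpecResidueField (F y')) σ ≫ f.fiberι (F y')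
    let Pov : Over (Spec (CommRingCat.of k)) := Over.mk (π₀ ≫ (X ⊗ X).hom)
    let π : Pov ⟶ X ⊗ X := Over.homMk π₀ rfl
    have hsnd : π₀ ≫ f = (pullback.snd (f.fiberToSpecResidueField (F y')) σ ≫
        X.left.fromSpecResidueField y') ≫ F := by
      simp only [π₀, Category.assoc, f.fiber_fac, pullback.condition_assoc]
      congr 1
      exact F.SpecMap_residueFieldMap_fromSpecResidueField y'
    let z : Pov ⟶ X := Over.homMk (pullback.snd (f.fiberToSpecResidueField (F y')) σ ≫
        X.left.fromSpecResidueField y') (by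
      show _ = π₀ ≫ (X ⊗ X).hom
      rw [← Over.w (snd X X), ← Category.assoc π₀, hsnd]
      simp only [Category.assoc]
      rw [show F ≫ X.hom = X.hom from Over.w _])
    have hz : π ≫ snd X X = z ^ N := by
      conv_rhs => rw [← Category.comp_id z, ← MonObj.comp_pow]
      exact Over.OverMorphism.ext hsnd
    have hπ : PicCalc.ph π d = 1 := by
      simp only [d, ph_mumDef, hz, mumDef_pow_right]
      exact mumDef_torsion c hc _ _
    obtain ⟨i⟩ : Nonempty ((Scheme.Modules.pullback π₀).obj D ≅ Coh.structureModule P) :=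
      (PicCalc.iso_iff (PicCalc.cl_pullback π (a := PicGrp.cls D hD) rfl)
        (b := (1 : PicLoc.PicSet Pov.left)) PicGrp.one_val.symm).2 (by rw [← hDc, hπ])
    exact ⟨(Scheme.Modules.pullbackComp _ _).app D ≪≫ i⟩
  obtain ⟨E, hE, ⟨e⟩⟩ := Lib.Cube.SeesawGlobal.exists_of_fibres f hH D hD hfib
  have he : d = PicCalc.ph (snd X X) (PicGrp.cls E hE) := by
    rw [hDc]
    exact (PicCalc.iso_iff (a := PicGrp.cls D hD) rfl
      (PicCalc.cl_pullback (snd X X) (a := PicGrp.cls E hE) rfl)).1 ⟨e.symm⟩
  have h0 := congrArg (PicCalc.ph (lift (1 : X ⟶ X) (𝟙 X))) he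
  rw [← PicCalc.ph_comp, lift_snd, PicCalc.ph_id] at h0
  simp only [d, ph_mumDef, lift_fst, mumDef_one_left] at h0
  rw [he, ← h0, map_one]

end

end Groth.Agent.H4.PicZero
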