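import Groth.Agent.H4.IsogenyFactor
import Groth.Agent.S7790
import Groth.Agent.H4.PicZero.Calculus
import Groth.Agent.Lib.GrpSch.BaseChange

/-! An isogeny of abelian schemes has, locally on the base, a quasi-inverse. -/

set_option autoImplicit false
set_option linter.style.haveILetI false

universe u

open CategoryTheory CategoryTheory.Limits MonoidalCategory CartesianMonoidalCategory MonObj AlgebraicGeometry
open Groth.Agent.Lib

namespace Groth.Agent.H4.PicZero

noncomputable section

variable {S : Scheme.{u}} {X Y : Over S} [GrpObj X] [GrpObj Y]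
  [IsProper X.hom] [Smooth X.hom] [GeometricallyConnected X.hom]
  [IsProper Y.hom] [Smooth Y.hom] [GeometricallyConnected Y.hom]

omit [GrpObj X] [GrpObj Y] [IsProper X.hom] [Smooth X.hom] [GeometricallyConnected X.hom]
  [IsProper Y.hom] [Smooth Y.hom] [GeometricallyConnected Y.hom] in
theorem bcProj_comp {f : X ⟶ Y} {T : Scheme.{u}} (e : T ⟶ S) :
    ((Over.pullback e).map f).left ≫ pullback.fst Y.hom e = pullback.fst X.hom e ≫ f.left :=
  pullback.lift_fst _ _ _

/-- Near every point of the base an isogeny divides multiplication by some `n > 0` on both sides. -/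
theorem exists_quasiInverse (φ : X ⟶ Y) [IsMonHom φ] [IsFinite φ.left] [Flat φ.left]
    [Surjective φ.left] (s : S) :
    ∃ (O : S.Opens) (_ : s ∈ O) (n : ℕ) (_ : 0 < n)
      (m : Y ⊗ Over.mk O.ι ⟶ X ⊗ Over.mk O.ι),
      m ≫ snd X _ = snd Y _ ∧
        (φ ▷ Over.mk O.ι) ≫ m = (𝟙 X ^ n) ▷ Over.mk O.ι ∧
        m ≫ (φ ▷ Over.mk O.ι) = (𝟙 Y ^ n) ▷ Over.mk O.ι := by
  haveI : LocallyOfFinitePresentation φ.left :=
    Flat55.FibreTransfer.locallyOfFinitePresentation φ.left Y.hom (Over.w φ)
  have hlc := (Scheme.Hom.isLocallyConstant_finrank φ.left).comp_continuous η[Y].left.continuous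
  obtain ⟨U, hU, hsU, hconst⟩ := (IsLocallyConstant.iff_exists_open _).1 hlc s
  let O : S.Opens := ⟨U, hU⟩
  let n := Scheme.Hom.finrank φ.left (η[Y].left s)
  have hn : 1 ≤ n := by
    obtain ⟨x, hx⟩ := φ.left.surjective (η[Y].left s)
    rw [show n = Scheme.Hom.finrank φ.left (η[Y].left s) from rfl, ← hx]
    exact Scheme.Hom.one_le_finrank_map φ.left x
  let e : (O : Scheme.{u}) ⟶ S := O.ι
  let F := Over.pullback e
  letI : GrpObj (F.obj X) := Functor.grpObjObj (F := F)
  letI : GrpObj (F.obj Y) := Functor.grpObjObj (F := F)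
  haveI : GeometricallyReduced X.hom := H2.FlatHom.Abelian.geometricallyReduced X.hom
  haveI : GeometricallyReduced Y.hom := H2.FlatHom.Abelian.geometricallyReduced Y.hom
  haveI : IsProper (F.obj X).hom := GrpSch.bc_hom_of (P := @IsProper) e X inferInstance
  haveI : IsProper (F.obj Y).hom := GrpSch.bc_hom_of (P := @IsProper) e Y inferInstance
  haveI : Smooth (F.obj X).hom := GrpSch.bc_hom_of (P := @Smooth) e X inferInstance
  haveI : Smooth (F.obj Y).hom := GrpSch.bc_hom_of (P := @Smooth) e Y inferInstance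
  haveI : GeometricallyConnected (F.obj X).hom :=
    GrpSch.bc_hom_of (P := @GeometricallyConnected) e X inferInstance
  haveI : GeometricallyConnected (F.obj Y).hom :=
    GrpSch.bc_hom_of (P := @GeometricallyConnected) e Y inferInstance
  haveI : GeometricallyReduced (F.obj X).hom :=
    GrpSch.bc_hom_of (P := @GeometricallyReduced) e X inferInstance
  haveI : GeometricallyReduced (F.obj Y).hom :=
    GrpSch.bc_hom_of (P := @GeometricallyReduced) e Y inferInstance
  haveI : IsMonHom (F.map φ) := GrpSch.isMonHom_bc_map e φ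
  haveI : IsFinite (F.map φ).left := GrpSch.bc_map_left_of (P := @IsFinite) e φ inferInstance
  haveI : Flat (F.map φ).left := GrpSch.bc_map_left_of (P := @Flat) e φ inferInstance
  haveI : Surjective (F.map φ).left := GrpSch.bc_map_left_of (P := @Surjective) e φ inferInstance
  have hdeg : ∀ t : (O : Scheme.{u}), Scheme.Hom.finrank (F.map φ).left (η[F.obj Y].left t) = n := by
    intro t
    rw [Scheme.Hom.finrank_of_isPullback _ _ _ _ (GrpSch.isPullback_bc_map e φ).flip]
    have h1 : η[F.obj Y].left ≫ GrpSch.bcProj e Y = e ≫ η[Y].left := by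
      have h2 : (η[F.obj Y] : 𝟙_ _ ⟶ F.obj Y) = toUnit _ ≫ η[F.obj Y] := by
        rw [toUnit_unit, Category.id_comp]
      have h3 : F.map (toUnit (𝟙_ (Over S)) ≫ η[Y]) =
          toUnit _ ≫ η[F.obj Y] := by
        rw [← Hom.one_def, ← Hom.one_def, Functor.map_one]
      have h4 := congrArg (fun z : F.obj (𝟙_ (Over S)) ⟶ F.obj Y => z.left ≫ GrpSch.bcProj e Y) h3
      simp only [GrpSch.bcProj, F] at h4
      rw [bcProj_comp, toUnit_unit, Category.id_comp] at h4
      rw [Over.comp_left, Over.toUnit_left, Category.assoc] at h4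
      let j : (O : Scheme.{u}) ⟶ pullback (𝟙_ (Over S)).hom e := pullback.lift e (𝟙 _) (by
        show e ≫ 𝟙 S = 𝟙 _ ≫ e
        rw [Category.comp_id, Category.id_comp])
      have h5 := congrArg (j ≫ ·) h4
      simp only [← Category.assoc, j, pullback.lift_fst] at h5
      rw [show (pullback.lift e (𝟙 (O : Scheme.{u})) _ ≫ (F.obj (𝟙_ (Over S))).hom) = 𝟙 _ from
        pullback.lift_snd _ _ _, Category.id_comp] at h5
      exact h5.symm
    rw [← Scheme.Hom.comp_apply, h1, Scheme.Hom.comp_apply]
    exact hconst _ t.2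
  obtain ⟨⟨g, ⟨hg, hfg⟩, -⟩, hall⟩ := S7790.result (F.obj X) (F.obj Y) (F.map φ) n hn hdeg
  obtain ⟨hgf, -, -, -⟩ := hall g hg hfg
  have hpowX : F.map (𝟙 X ^ n) = 𝟙 (F.obj X) ^ n := by
    have := map_pow (Functor.homMonoidHom F (X := X) (M := X)) (𝟙 X) n
    simp only [Functor.homMonoidHom, MonoidHom.coe_mk, OneHom.coe_mk, CategoryTheory.Functor.map_id] at this
    exact this
  have hpowY : F.map (𝟙 Y ^ n) = 𝟙 (F.obj Y) ^ n := by
    have := map_pow (Functor.homMonoidHom F (X := Y) (M := Y)) (𝟙 Y) n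
    simp only [Functor.homMonoidHom, MonoidHom.coe_mk, OneHom.coe_mk, CategoryTheory.Functor.map_id] at this
    exact this
  -- `F.map f` and `f ▷ O` have the same underlying morphism
  have hwhisk : ∀ {A B : Over S} (f : A ⟶ B), (f ▷ Over.mk e).left = (F.map f).left := by
    intro A B f
    refine pullback.hom_ext (f := B.hom) (g := e) ?_ ?_
    · exact (congrArg Over.Hom.left (whiskerRight_fst f (Over.mk e))).trans (pullback.lift_fst _ _ _).symm
    · exact (congrArg Over.Hom.left (whiskerRight_snd f (Over.mk e))).trans (pullback.lift_snd _ _ _).symm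
  let m : Y ⊗ Over.mk e ⟶ X ⊗ Over.mk e := Over.homMk g.left (by
    have hX : (X ⊗ Over.mk e).hom = pullback.snd X.hom e ≫ e := pullback.condition
    have hY : (Y ⊗ Over.mk e).hom = pullback.snd Y.hom e ≫ e := pullback.condition
    rw [hX, hY, ← Category.assoc]
    congr 1
    exact Over.w g)
  refine ⟨O, hsU, n, hn, m, ?_, ?_, ?_⟩
  · exact Over.OverMorphism.ext (Over.w g)
  · apply Over.OverMorphism.ext
    rw [Over.comp_left, hwhisk, hwhisk, hpowX]
    exact congrArg Over.Hom.left hfg
  · apply Over.OverMorphism.ext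
    rw [Over.comp_left, hwhisk, hwhisk, hpowY]
    exact congrArg Over.Hom.left hgf

end

end Groth.Agent.H4.PicZero
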